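/-
Fast kernel arithmetic of 9 × 9 matrices over the field with four elements: two bit planes of 81 bits in one number,
row `i` and column `j` at bit `9 * i + j`, indices being the pairs of residues modulo 3.
Main results (namespace `Cfsg.Agent.JankoThree`): `ent`, `psi`, `toMat`, `mulN`, `toMat_mulN`, `smulN`, `toMat_inj`.
-/
import Cfsg.Agent.Lib.CosetEnum.Pack
import Cfsg.Prelude.Def_Spor_J3

set_option autoImplicit false

namespace Cfsg.Agent.JankoThree

open Cfsg.Agent.CosetEnum
open Cfsg.Spor (F9)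

/-- Nine ones in lanes of nine bits. -/
def ones : ℕ := 4731607904558235517441

/-- The mask of a plane. -/
def planeMask : ℕ := 2417851639229258349412351

/-- One step of a product: the term of the middle index `j`. -/
noncomputable def term (A0 A1 B : ℕ) (j : ℕ) (k : ℕ → ℕ → ℕ) : ℕ :=
  force (Nat.land (Nat.shiftRight A0 j) ones) fun m0 => force (Nat.land (Nat.shiftRight A1 j) ones) fun m1 =>
  force (Nat.land (Nat.shiftRight B (Nat.mul 9 j)) 511) fun b0 =>
  force (Nat.land (Nat.shiftRight B (Nat.add 81 (Nat.mul 9 j))) 511) fun b1 =>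
  force (Nat.xor (Nat.mul m0 b0) (Nat.mul m1 b1)) fun d0 =>
  force (Nat.xor (Nat.mul m0 b1) (Nat.mul m1 (Nat.xor b0 b1))) fun d1 => k d0 d1

/-- The accumulation of the last `n` middle indices. -/
noncomputable def mulAux (A0 A1 B : ℕ) (n : ℕ) : ℕ → ℕ → ℕ :=
  Nat.rec (motive := fun _ => ℕ → ℕ → ℕ) (fun C0 C1 => Nat.lor C0 (Nat.shiftLeft C1 81))
    (fun m ih C0 C1 => term A0 A1 B m fun d0 d1 =>
      force (Nat.xor C0 d0) fun D0 => force (Nat.xor C1 d1) fun D1 => ih D0 D1) n

/-- Product of matrices. -/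
noncomputable def mulN (A B : ℕ) : ℕ :=
  force (Nat.land A planeMask) fun A0 => force (Nat.shiftRight A 81) fun A1 => mulAux A0 A1 B 9 0 0

/-- Multiplication by a scalar, given by its code. -/
noncomputable def smulN (c A : ℕ) : ℕ :=
  force (Nat.land A planeMask) fun A0 => force (Nat.land (Nat.shiftRight A 81) planeMask) fun A1 =>
    bif Nat.beq c 1 then Nat.lor A0 (Nat.shiftLeft A1 81) else
    bif Nat.beq c 2 then Nat.lor A1 (Nat.shiftLeft (Nat.xor A0 A1) 81) else
    Nat.lor (Nat.xor A0 A1) (Nat.shiftLeft A0 81)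

/-- The position of an index. -/
def ix (z : F9) : ℕ := 3 * z.1.val + z.2.val

theorem ix_lt (z : F9) : ix z < 9 := by
  unfold ix
  have := ZMod.val_lt z.1
  have := ZMod.val_lt z.2
  omega

theorem ix_inj : ∀ z w : F9, ix z = ix w → z = w := by decide

theorem ix_surj {n : ℕ} (hn : n < 9) : ∃ z : F9, ix z = n := by
  interval_cases n <;> decide

/-- The code of an entry. -/
def ent (A i j : ℕ) : ℕ := (A.testBit (9 * i + j)).toNat + 2 * (A.testBit (81 + 9 * i + j)).toNat

variable {F : Type*} [Field F]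

/-- The field element of a truth value. -/
def bitF (F : Type*) [Field F] (b : Bool) : F := if b then 1 else 0

/-- The field element of a code. -/
def psi (ω : F) (n : ℕ) : F := bitF F (n.testBit 0) + bitF F (n.testBit 1) * ω

/-- The field element of an entry. -/
def entF (ω : F) (A i j : ℕ) : F := bitF F (A.testBit (9 * i + j)) + bitF F (A.testBit (81 + 9 * i + j)) * ω

/-- The matrix of a number. -/
def toMat (ω : F) (A : ℕ) : Matrix F9 F9 F := fun w z => entF ω A (ix w) (ix z)

theorem ent_lt (A i j : ℕ) : ent A i j < 4 := by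
  unfold ent
  cases A.testBit (9 * i + j) <;> cases A.testBit (81 + 9 * i + j) <;> simp

theorem psi_ent (ω : F) (A i j : ℕ) : psi ω (ent A i j) = entF ω A i j := by
  unfold ent psi entF
  cases A.testBit (9 * i + j) <;> cases A.testBit (81 + 9 * i + j) <;> simp +decide [bitF]

theorem bitF_and (a b : Bool) : bitF F (a && b) = bitF F a * bitF F b := by
  cases a <;> cases b <;> simp [bitF]

theorem testBit_mask (X j : ℕ) (b : ℕ) (hb : b < 2 ^ 9) (k : ℕ) :
    (((X >>> j) &&& ones) * b).testBit k = (decide (k < 81) && (X.testBit (9 * (k / 9) + j) && b.testBit (k % 9))) := by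
  have ho : ones = pack 9 9 (fun _ => 1) := by simp [ones, pack]
  have hb1 : ∀ i < 9, (if X.testBit (9 * i + j) then 1 else 0 : ℕ) < 2 ^ 9 := fun i _ => by split <;> norm_num
  have hm : (X >>> j) &&& ones = pack 9 9 (fun i => if X.testBit (9 * i + j) then 1 else 0) := by
    refine Nat.eq_of_testBit_eq fun m => ?_
    rw [Nat.testBit_land, Nat.testBit_shiftRight, ho, testBit_pack (by norm_num) (fun i _ => by norm_num),
      testBit_pack (by norm_num) hb1]
    by_cases hm9 : m % 9 = 0
    · rw [hm9, show j + m = 9 * (m / 9) + j by omega]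
      cases X.testBit (9 * (m / 9) + j) <;> simp
    · rw [show (1 : ℕ).testBit (m % 9) = false by
        rw [show (1 : ℕ) = 2 ^ 0 from rfl, Nat.testBit_two_pow]
        simp only [decide_eq_false_iff_not]
        omega]
      cases X.testBit (9 * (m / 9) + j) <;> simp [hm9]
      rw [show (1 : ℕ) = 2 ^ 0 from rfl, Nat.testBit_two_pow]
      simp only [decide_eq_false_iff_not]
      omega
  rw [hm, pack_mul, testBit_pack (by norm_num) fun i _ => by split <;> simp <;> omega]
  have hk : k / 9 < 9 ↔ k < 81 := by omega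
  simp only [hk]
  cases X.testBit (9 * (k / 9) + j) <;> simp

theorem testBit_row (B s : ℕ) {k : ℕ} (hk : k < 9) : ((B >>> s) &&& 511).testBit k = B.testBit (s + k) := by
  rw [Nat.testBit_land, Nat.testBit_shiftRight, show (511 : ℕ) = 2 ^ 9 - 1 from rfl, Nat.testBit_two_pow_sub_one]
  simp [hk]

theorem row_lt (B s : ℕ) : (B >>> s) &&& 511 < 2 ^ 9 := Nat.lt_of_le_of_lt Nat.and_le_right (by norm_num)

variable {ω : F} (h2 : (2 : F) = 0)
include h2

theorem bitF_xor (a b : Bool) : bitF F (a ^^ b) = bitF F a + bitF F b := by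
  cases a <;> cases b <;> simp [bitF]
  linear_combination -h2

variable (hω : ω ^ 2 + ω + 1 = 0)
include hω

theorem mulAux_spec (A B : ℕ) : ∀ (n : ℕ), n ≤ 9 → ∀ C0 C1 : ℕ,
    (∀ k, 81 ≤ k → C0.testBit k = false) → (∀ k, 81 ≤ k → C1.testBit k = false) →
    ∀ i < 9, ∀ k < 9, entF ω (mulAux (Nat.land A planeMask) (Nat.shiftRight A 81) B n C0 C1) i k =
      bitF F (C0.testBit (9 * i + k)) + bitF F (C1.testBit (9 * i + k)) * ω +
        ∑ j ∈ Finset.range n, entF ω A i j * entF ω B j k
  | 0, _, C0, C1, h0, h1, i, hi, k, hk => by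
    show entF ω (C0 ||| C1 <<< 81) i k = _
    simp only [entF, Finset.range_zero, Finset.sum_empty, add_zero, Nat.testBit_lor, Nat.testBit_shiftLeft]
    rw [h0 (81 + 9 * i + k) (by omega), show ¬ 9 * i + k ≥ 81 by omega |> decide_eq_false,
      show 81 + 9 * i + k - 81 = 9 * i + k by omega, decide_eq_true (show 81 + 9 * i + k ≥ 81 by omega)]
    simp
  | n + 1, hn, C0, C1, h0, h1, i, hi, k, hk => by
    have hA0 : ∀ m < 81, (A &&& planeMask).testBit m = A.testBit m := fun m hm => by
      rw [Nat.testBit_land, show planeMask = 2 ^ 81 - 1 from rfl, Nat.testBit_two_pow_sub_one]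
      simp [hm]
    have hz : ∀ X b m, b < 2 ^ 9 → 81 ≤ m → (((X >>> n) &&& ones) * b).testBit m = false := fun X b m hb hm => by
      rw [testBit_mask X n b hb m, decide_eq_false (show ¬ m < 81 by omega), Bool.false_and]
    have hx : (((B >>> (9 * n)) &&& 511) ^^^ ((B >>> (81 + 9 * n)) &&& 511)) < 2 ^ 9 :=
      Nat.xor_lt_two_pow (row_lt _ _) (row_lt _ _)
    have e : mulAux (Nat.land A planeMask) (Nat.shiftRight A 81) B (n + 1) C0 C1 =
        mulAux (Nat.land A planeMask) (Nat.shiftRight A 81) B n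
          (C0 ^^^ (((((A &&& planeMask) >>> n) &&& ones) * ((B >>> (9 * n)) &&& 511)) ^^^
            ((((A >>> 81) >>> n) &&& ones) * ((B >>> (81 + 9 * n)) &&& 511))))
          (C1 ^^^ (((((A &&& planeMask) >>> n) &&& ones) * ((B >>> (81 + 9 * n)) &&& 511)) ^^^
            ((((A >>> 81) >>> n) &&& ones) * (((B >>> (9 * n)) &&& 511) ^^^ ((B >>> (81 + 9 * n)) &&& 511))))) := by
      show term _ _ B n (fun d0 d1 => force (Nat.xor C0 d0) fun D0 => force (Nat.xor C1 d1) fun D1 =>
        mulAux (Nat.land A planeMask) (Nat.shiftRight A 81) B n D0 D1) = _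
      simp only [term, force_eq]
      rfl
    rw [e]
    have ih := mulAux_spec A B n (by omega)
    rw [ih _ _ (fun m hm => by simp [Nat.testBit_xor, h0 m hm, hz _ _ m (row_lt _ _) hm])
      (fun m hm => by simp [Nat.testBit_xor, h1 m hm, hz _ _ m (row_lt _ _) hm, hz _ _ m hx hm]) i hi k hk,
      Finset.sum_range_succ]
    have hik : (9 * i + k) / 9 = i ∧ (9 * i + k) % 9 = k := by omega
    simp only [Nat.testBit_xor, testBit_mask _ _ _ (row_lt _ _), testBit_mask _ _ _ hx, hik.1, hik.2,
      decide_eq_true (show 9 * i + k < 81 by omega), Bool.true_and, bitF_xor h2, bitF_and, testBit_row _ _ hk,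
      hA0 (9 * i + n) (by omega), Nat.testBit_shiftRight]
    simp only [entF, ← Nat.add_assoc]
    linear_combination (bitF F (A.testBit (81 + 9 * i + n)) * bitF F (B.testBit (81 + 9 * n + k))) * (-hω + (ω + 1) * h2)

theorem entF_mulN (A B : ℕ) {i k : ℕ} (hi : i < 9) (hk : k < 9) :
    entF ω (mulN A B) i k = ∑ j ∈ Finset.range 9, entF ω A i j * entF ω B j k := by
  rw [mulN, force_eq, force_eq, mulAux_spec h2 hω A B 9 le_rfl 0 0 (fun m _ => Nat.zero_testBit m)
    (fun m _ => Nat.zero_testBit m) i hi k hk]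
  simp [bitF]

theorem toMat_mulN (A B : ℕ) : toMat ω (mulN A B) = toMat ω A * toMat ω B := by
  ext w z
  rw [Matrix.mul_apply]
  simp only [toMat]
  rw [entF_mulN h2 hω A B (ix_lt w) (ix_lt z)]
  exact (Finset.sum_bij (fun v _ => ix v) (fun v _ => Finset.mem_range.mpr (ix_lt v))
    (fun v _ v' _ e => ix_inj v v' e)
    (fun j hj => by obtain ⟨v, hv⟩ := ix_surj (Finset.mem_range.mp hj); exact ⟨v, Finset.mem_univ _, hv⟩)
    (fun v _ => rfl)).symm

theorem psi_ne_zero {n : ℕ} (hn : n < 4) (h0 : n ≠ 0) : psi ω n ≠ 0 := by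
  have hne : ω ≠ 0 := fun e => by simp [e] at hω
  interval_cases n
  · exact absurd rfl h0
  · simp +decide [psi, bitF]
  · simpa +decide [psi, bitF] using hne
  · simp +decide [psi, bitF]
    intro e
    exact one_ne_zero (α := F) (by linear_combination hω - ω * e)

theorem psi_inj {n m : ℕ} (hn : n < 4) (hm : m < 4) (h : psi ω n = psi ω m) : n = m := by
  by_contra hne
  refine psi_ne_zero h2 hω (Nat.xor_lt_two_pow (n := 2) hn hm) (fun e => hne (Nat.xor_eq_zero_iff.mp e)) ?_
  simp only [psi, Nat.testBit_xor, bitF_xor h2] at h ⊢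
  linear_combination h + (bitF F (m.testBit 0) + bitF F (m.testBit 1) * ω) * h2

theorem entF_inj {A B i j i' j' : ℕ} (h : entF ω A i j = entF ω B i' j') :
    A.testBit (9 * i + j) = B.testBit (9 * i' + j') ∧
      A.testBit (81 + 9 * i + j) = B.testBit (81 + 9 * i' + j') := by
  have e := psi_inj h2 hω (ent_lt A i j) (ent_lt B i' j') (by rw [psi_ent, psi_ent, h])
  unfold ent at e
  revert e
  cases A.testBit (9 * i + j) <;> cases B.testBit (9 * i' + j') <;>
    cases A.testBit (81 + 9 * i + j) <;> cases B.testBit (81 + 9 * i' + j') <;> simp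

theorem toMat_inj {A B : ℕ} (hA : A < 2 ^ 162) (hB : B < 2 ^ 162) (h : toMat ω A = toMat ω B) : A = B := by
  refine Nat.eq_of_testBit_eq fun m => ?_
  by_cases hm : m < 162
  · obtain ⟨w, hw⟩ := ix_surj (show m % 81 / 9 < 9 by omega)
    obtain ⟨z, hz⟩ := ix_surj (show m % 9 < 9 by omega)
    have e := entF_inj h2 hω (congrFun (congrFun h w) z)
    rw [hw, hz] at e
    by_cases hm' : m < 81
    · rw [show m = 9 * (m % 81 / 9) + m % 9 by omega]
      exact e.1
    · rw [show m = 81 + 9 * (m % 81 / 9) + m % 9 by omega]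
      exact e.2
  · rw [Nat.testBit_lt_two_pow (lt_of_lt_of_le hA (Nat.pow_le_pow_right (by norm_num) (by omega))),
      Nat.testBit_lt_two_pow (lt_of_lt_of_le hB (Nat.pow_le_pow_right (by norm_num) (by omega)))]

theorem toMat_smulN (c A : ℕ) (hc : c = 1 ∨ c = 2 ∨ c = 3) : toMat ω (smulN c A) = psi ω c • toMat ω A := by
  ext w z
  have hi := ix_lt w
  have hj := ix_lt z
  have hlow : ∀ X Y : ℕ, (∀ m, 81 ≤ m → X.testBit m = false) →
      (X ||| Y <<< 81).testBit (9 * ix w + ix z) = X.testBit (9 * ix w + ix z) ∧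
      (X ||| Y <<< 81).testBit (81 + 9 * ix w + ix z) = Y.testBit (9 * ix w + ix z) := fun X Y hX => by
    rw [Nat.testBit_lor, Nat.testBit_lor, Nat.testBit_shiftLeft, Nat.testBit_shiftLeft,
      decide_eq_false (show ¬ 9 * ix w + ix z ≥ 81 by omega), decide_eq_true (show 81 + 9 * ix w + ix z ≥ 81 by omega),
      show 81 + 9 * ix w + ix z - 81 = 9 * ix w + ix z by omega, hX _ (show 81 ≤ 81 + 9 * ix w + ix z by omega)]
    simp
  have hA0 : ∀ m, (A &&& planeMask).testBit m = (A.testBit m && decide (m < 81)) := fun m => by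
    rw [Nat.testBit_land, show planeMask = 2 ^ 81 - 1 from rfl, Nat.testBit_two_pow_sub_one]
  have hA0' : ∀ m, 81 ≤ m → (A &&& planeMask).testBit m = false := fun m hm => by
    rw [hA0, decide_eq_false (show ¬ m < 81 by omega), Bool.and_false]
  simp only [Matrix.smul_apply, smul_eq_mul, toMat, entF, smulN, force_eq]
  simp only [show ∀ x y, Nat.xor x y = x ^^^ y from fun _ _ => rfl, show ∀ x y, Nat.land x y = x &&& y from fun _ _ => rfl,
    show ∀ x y, Nat.shiftRight x y = x >>> y from fun _ _ => rfl, show ∀ x y, Nat.shiftLeft x y = x <<< y from fun _ _ => rfl,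
    show ∀ x y, Nat.lor x y = x ||| y from fun _ _ => rfl]
  have hB : ∀ m, ((A >>> 81) &&& planeMask).testBit m = (A.testBit (81 + m) && decide (m < 81)) := fun m => by
    rw [Nat.testBit_land, Nat.testBit_shiftRight, show planeMask = 2 ^ 81 - 1 from rfl, Nat.testBit_two_pow_sub_one]
  have hB' : ∀ m, 81 ≤ m → ((A >>> 81) &&& planeMask).testBit m = false := fun m hm => by
    rw [hB, decide_eq_false (show ¬ m < 81 by omega), Bool.and_false]
  have hlt : 9 * ix w + ix z < 81 := by omega
  rcases hc with rfl | rfl | rfl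
  · simp only [show Nat.beq 1 1 = true from rfl, cond_true, (hlow _ _ hA0').1, (hlow _ _ hA0').2, hA0, hB, hlt,
      decide_true, Bool.and_true, psi]
    simp +decide [bitF, Nat.add_assoc]
  · simp only [show Nat.beq 2 1 = false from rfl, show Nat.beq 2 2 = true from rfl, cond_true, cond_false,
      (hlow _ _ hB').1, (hlow _ _ hB').2, Nat.testBit_xor, bitF_xor h2, hA0, hB, hlt, decide_true, Bool.and_true, psi]
    simp only [show (2 : ℕ).testBit 0 = false from rfl, show (2 : ℕ).testBit 1 = true from rfl,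
      show (3 : ℕ).testBit 0 = true from rfl, show (3 : ℕ).testBit 1 = true from rfl, show bitF F false = 0 from rfl,
      show bitF F true = 1 from rfl, ← Nat.add_assoc]
    linear_combination (bitF F (A.testBit (81 + 9 * ix w + ix z))) * (-hω + (ω + 1) * h2)
  · have hX : ∀ m, 81 ≤ m → ((A &&& planeMask) ^^^ ((A >>> 81) &&& planeMask)).testBit m = false := fun m hm => by
      rw [Nat.testBit_xor, hA0' m hm, hB' m hm]; rfl
    simp only [show Nat.beq 3 1 = false from rfl, show Nat.beq 3 2 = false from rfl, cond_false,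
      (hlow _ _ hX).1, (hlow _ _ hX).2, Nat.testBit_xor, bitF_xor h2, hA0, hB, hlt, decide_true, Bool.and_true, psi]
    simp only [show (2 : ℕ).testBit 0 = false from rfl, show (2 : ℕ).testBit 1 = true from rfl,
      show (3 : ℕ).testBit 0 = true from rfl, show (3 : ℕ).testBit 1 = true from rfl, show bitF F false = 0 from rfl,
      show bitF F true = 1 from rfl, ← Nat.add_assoc]
    linear_combination (bitF F (A.testBit (81 + 9 * ix w + ix z))) * (-hω + h2)

end Cfsg.Agent.JankoThree
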