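/-
The checks of the certificate for the triple cover of the third Janko group.
Main results (namespace `Cfsg.Agent.JankoThree`): the checks `stepOK`, `parOK`, `actOK`, `fixOK`, `normOK`,
`hsSortOK`, `transSortOK`, `genOK`, `baseCheck`, `isoParOK`, `walk`.
-/
import Cfsg.Agent.Lib.JankoThree.Mat
import Cfsg.Agent.Lib.JankoThree.DataGens
import Cfsg.Agent.Lib.JankoThree.DataTrans
import Cfsg.Agent.Lib.JankoThree.DataSub
import Cfsg.Agent.Lib.JankoThree.DataIso

set_option autoImplicit false
set_option maxRecDepth 100000

namespace Cfsg.Agent.JankoThree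

open Cfsg.Agent.CosetEnum

/-- The identity matrix. -/
def oneN : ℕ := 1 + 2 ^ 10 + 2 ^ 20 + 2 ^ 30 + 2 ^ 40 + 2 ^ 50 + 2 ^ 60 + 2 ^ 70 + 2 ^ 80

/-- A transversal element. -/
noncomputable def trans (i : ℕ) : ℕ := tget 162 16 transT i

/-- A stabiliser element. -/
noncomputable def hs (k : ℕ) : ℕ := tget 162 16 hsT k

/-- A generator of the second kind of certificate: one of two elements of order 19. -/
noncomputable def genOf (b : ℕ) : ℕ := bif Nat.beq b 0 then gX else gY

/-- The Schreier table. -/
noncomputable def schE (b i : ℕ) : ℕ := bif Nat.beq b 0 then tget 32 64 schX i else tget 32 64 schY i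

/-- Target coset. -/
noncomputable def schJ (b i : ℕ) : ℕ := Nat.land (schE b i) 32767

/-- Schreier element. -/
noncomputable def schK (b i : ℕ) : ℕ := Nat.shiftRight (schE b i) 15

/-- `g t_i = t_j h_k`. -/
noncomputable def stepOK (b i : ℕ) : Bool :=
  force (schE b i) fun e => force (Nat.land e 32767) fun j => force (Nat.shiftRight e 15) fun k =>
    Nat.blt j 23256 && Nat.blt k 6480 &&
      force (mulN (genOf b) (trans i)) fun P => force (trans j) fun tj =>
        bif Nat.blt k 3 then Nat.beq P (smulN (Nat.add k 1) tj) else Nat.beq P (mulN tj (hs k))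

/-- The spanning tree of the transversal. -/
noncomputable def parOK (i : ℕ) : Bool :=
  force (tget 16 128 parT i) fun q =>
    Nat.blt (Nat.div q 2) i && force (schE (Nat.mod q 2) (Nat.div q 2)) fun e =>
      Nat.beq (Nat.land e 32767) i && Nat.blt (Nat.shiftRight e 15) 3

/-- Actions on the stabiliser. -/
noncomputable def actA (k : ℕ) : ℕ := tget 16 128 actTA k
/-- Actions on the stabiliser. -/
noncomputable def actB (k : ℕ) : ℕ := tget 16 128 actTB k
/-- Actions on the stabiliser. -/
noncomputable def actW (k : ℕ) : ℕ := tget 16 128 actTW k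

/-- Closure of the stabiliser, with a spanning tree. -/
noncomputable def actOK (k : ℕ) : Bool :=
  force (hs k) fun h => Nat.blt (actA k) 6480 && Nat.blt (actB k) 6480 && Nat.blt (actW k) 6480 &&
    Nat.beq (mulN (hs kA) h) (hs (actA k)) && Nat.beq (mulN (hs kB) h) (hs (actB k)) &&
    Nat.beq (smulN 2 h) (hs (actW k)) &&
    (Nat.blt k 3 || force (tget 16 128 hparT k) fun q => Nat.blt (Nat.div q 2) k &&
      Nat.beq (bif Nat.beq (Nat.mod q 2) 0 then actA (Nat.div q 2) else actB (Nat.div q 2)) k)

/-- The first column as a number. -/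
noncomputable def colC (A : ℕ) : ℕ := Nat.land A colMask

/-- The stabiliser fixes the first line. -/
noncomputable def fixOK (k : ℕ) : Bool :=
  force (colC (hs k)) fun c => Nat.beq c 1 || Nat.beq c (2 ^ 81) || Nat.beq c (1 + 2 ^ 81)

/-- The first nonzero entry of the first column, from row `i`, is one. -/
noncomputable def scanOne (A : ℕ) (n : ℕ) : ℕ → Bool :=
  Nat.rec (motive := fun _ => ℕ → Bool) (fun _ => false)
    (fun _ ih i =>
      bif Nat.beq (Nat.land (Nat.shiftRight A (Nat.mul 9 i)) 1) 1 then
        Nat.beq (Nat.land (Nat.shiftRight A (Nat.add 81 (Nat.mul 9 i))) 1) 0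
      else bif Nat.beq (Nat.land (Nat.shiftRight A (Nat.add 81 (Nat.mul 9 i))) 1) 1 then false
      else ih (Nat.add i 1)) n

/-- The transversal element sends the base vector to a normalised vector. -/
noncomputable def normOK (i : ℕ) : Bool := force (trans i) fun t => scanOne t 9 0

/-- The stabiliser elements are distinct. -/
noncomputable def hsSortOK (r : ℕ) : Bool :=
  Nat.blt (hs (tget 16 128 hpermT r)) (hs (tget 16 128 hpermT (Nat.succ r)))

/-- The rank of a stabiliser element. -/
noncomputable def hsRankOK (k : ℕ) : Bool :=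
  force (tget 16 128 hrankT k) fun r => Nat.blt r 6480 && Nat.beq (tget 16 128 hpermT r) k

/-- The transversal images are distinct. -/
noncomputable def transSortOK (r : ℕ) : Bool :=
  Nat.blt (colC (trans (tget 16 128 tpermT r))) (colC (trans (tget 16 128 tpermT (Nat.succ r))))

/-- The rank of a transversal element. -/
noncomputable def transRankOK (i : ℕ) : Bool :=
  force (tget 16 128 trankT i) fun r => Nat.blt r 23256 && Nat.beq (tget 16 128 tpermT r) i

/-- A defining generator. -/
noncomputable def genN (n : ℕ) : ℕ := tget 162 1 gensT n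

/-- A defining generator lies in the group. -/
noncomputable def genOK (n : ℕ) : Bool :=
  force (tget 32 64 gfacT n) fun e => Nat.blt (Nat.land e 32767) 23256 && Nat.blt (Nat.shiftRight e 15) 6480 &&
    Nat.beq (genN n) (mulN (trans (Nat.land e 32767)) (hs (Nat.shiftRight e 15)))

/-- Powers. -/
noncomputable def powN (A : ℕ) (n : ℕ) : ℕ :=
  Nat.rec (motive := fun _ => ℕ) oneN (fun _ ih => force ih fun P => mulN A P) n

/-- Facts about the two generators and the scalars. -/
noncomputable def baseCheck : Bool :=
  Nat.beq (trans 0) oneN && Nat.beq (hs 0) oneN && Nat.beq (hs 1) (smulN 2 oneN) && Nat.beq (hs 2) (smulN 3 oneN) &&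
    Nat.beq (powN (mulN gX gY) 8) (hs 1) &&
    Nat.beq gX (mulN (mulN (genN 24) (genN 22)) (genN 35)) && Nat.beq gY (mulN (mulN (genN 37) (genN 24)) (genN 26)) &&
    Nat.beq (powN gX 19) oneN && Nat.beq (powN gY 19) oneN && !Nat.beq gX oneN && !Nat.beq gY oneN &&
    Nat.beq (schK linkBA linkIA) kA && Nat.beq (schK linkBB linkIB) kB &&
    Nat.blt linkBA 2 && Nat.blt linkBB 2 && Nat.blt linkIA 23256 && Nat.blt linkIB 23256 &&
    Nat.beq (mulN gX gXi) oneN && Nat.beq (mulN gXi gX) oneN && Nat.beq (mulN gY gYi) oneN && Nat.beq (mulN gYi gY) oneN &&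
    Nat.beq (mulN kryK kryI) oneN && Nat.beq (mulN kryI kryK) oneN &&
    allFrom (fun k => force (powN gX k) fun P =>
      Nat.beq (Nat.land (Nat.shiftRight kryK k) colMask) (colC P)) 0 9

/-- A compact vector as a first column. -/
noncomputable def colOf (v : ℕ) : ℕ :=
  Nat.rec (motive := fun _ => ℕ) 0
    (fun k ih => force ih fun r => Nat.lor r (Nat.lor
      (Nat.shiftLeft (Nat.land (Nat.shiftRight v k) 1) (Nat.mul 9 k))
      (Nat.shiftLeft (Nat.land (Nat.shiftRight v (Nat.add 9 k)) 1) (Nat.add 81 (Nat.mul 9 k))))) 9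

/-- An isotropic vector. -/
noncomputable def isoV (r : ℕ) : ℕ := tget 18 64 isoT r

/-- The spanning tree of the isotropic lines. -/
noncomputable def isoParOK (r : ℕ) : Bool :=
  force (tget 24 64 isoParT r) fun e => force (Nat.land e 65535) fun q =>
    force (Nat.land (Nat.shiftRight e 16) 1) fun b => force (Nat.shiftRight e 17) fun c =>
      Nat.blt q r && Nat.ble 1 c && Nat.ble c 3 &&
        Nat.beq (colOf (isoV r)) (smulN c (mulN (genOf b) (colOf (isoV q))))

/-- The parity of the number of nonzero entries of a compact vector. -/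
noncomputable def oddWeight (v : ℕ) : Bool :=
  Nat.rec (motive := fun _ => Bool) false
    (fun k ih => bif Nat.beq (Nat.land (Nat.shiftRight (Nat.lor v (Nat.shiftRight v 9)) k) 1) 1 then !ih else ih) 9

/-- A normalised isotropic vector. -/
noncomputable def isoTest (v : ℕ) : Bool := !oddWeight v && scanOne (colOf v) 9 0

/-- Walks through `v, v + 1, …` and matches the isotropic ones with the sorted table from `r` on;
the value is one more than the final pointer, or zero. -/
noncomputable def walk (n : ℕ) : ℕ → ℕ → ℕ :=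
  Nat.rec (motive := fun _ => ℕ → ℕ → ℕ) (fun _ r => Nat.succ r)
    (fun _ ih v r =>
      bif isoTest v then
        bif Nat.beq (isoV (tget 16 128 isoOrdT r)) v && Nat.blt r 43605 then
          force (Nat.succ r) fun r => force (Nat.succ v) fun v => ih v r
        else 0
      else force (Nat.succ v) fun v => ih v r) n

end Cfsg.Agent.JankoThree
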