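/-
Meaning of the bit tests of the certificate for `3.J₃`.
Main results (namespace `Cfsg.Agent.JankoThree`): `entF_eq_psi`, `toMat_oneN`, `scanOne_spec`, `colC_eq_iff`,
`gens_mem_iff`, `psi_code`.
-/
import Cfsg.Agent.Lib.JankoThree.Cert
import Cfsg.Agent.EqLemmas

set_option autoImplicit false

namespace Cfsg.Agent.JankoThree

open Cfsg.Agent.CosetEnum
open Cfsg.Spor (F9)

theorem bitTest (A s : ℕ) : Nat.beq (Nat.land (Nat.shiftRight A s) 1) 1 = A.testBit s := by
  show Nat.beq ((A >>> s) &&& 1) 1 = A.testBit s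
  rw [Nat.and_one_is_mod, Nat.shiftRight_eq_div_pow, ← Nat.toNat_testBit]
  cases A.testBit s <;> rfl

theorem bitTest0 (A s : ℕ) : Nat.beq (Nat.land (Nat.shiftRight A s) 1) 0 = !A.testBit s := by
  show Nat.beq ((A >>> s) &&& 1) 0 = !A.testBit s
  rw [Nat.and_one_is_mod, Nat.shiftRight_eq_div_pow, ← Nat.toNat_testBit]
  cases A.testBit s <;> rfl

theorem colMask_testBit : ∀ m, m < 162 → colMask.testBit m = decide (m % 9 = 0) := by
  decide +kernel

theorem colC_bit (A : ℕ) {i : ℕ} (hi : i < 9) :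
    (colC A).testBit (9 * i) = A.testBit (9 * i) ∧ (colC A).testBit (81 + 9 * i) = A.testBit (81 + 9 * i) := by
  show (A &&& colMask).testBit _ = _ ∧ (A &&& colMask).testBit _ = _
  rw [Nat.testBit_land, Nat.testBit_land, colMask_testBit _ (by omega), colMask_testBit _ (by omega),
    decide_eq_true (show 9 * i % 9 = 0 by omega), decide_eq_true (show (81 + 9 * i) % 9 = 0 by omega)]
  simp

theorem ent_colC (A : ℕ) {i : ℕ} (hi : i < 9) : ent (colC A) i 0 = ent A i 0 := by
  rw [ent, ent, Nat.add_zero, Nat.add_zero, (colC_bit A hi).1, (colC_bit A hi).2]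

theorem colC_lt (A : ℕ) : colC A < 2 ^ 162 :=
  lt_of_le_of_lt (show A &&& colMask ≤ colMask from Nat.and_le_right) (by decide +kernel)

theorem colC_eq_of_ent {A B : ℕ} (h : ∀ i < 9, ent A i 0 = ent B i 0) : colC A = colC B := by
  refine Nat.eq_of_testBit_eq fun m => ?_
  show (A &&& colMask).testBit m = (B &&& colMask).testBit m
  rw [Nat.testBit_land, Nat.testBit_land]
  by_cases hm : m < 162
  · rw [colMask_testBit m hm]
    by_cases hd : m % 9 = 0
    · rw [decide_eq_true hd, Bool.and_true, Bool.and_true]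
      have e := h (m % 81 / 9) (by omega)
      rw [ent, ent, Nat.add_zero, Nat.add_zero] at e
      by_cases h81 : m < 81
      · rw [show 9 * (m % 81 / 9) = m by omega] at e
        revert e
        cases A.testBit m <;> cases B.testBit m <;> cases A.testBit (81 + m) <;> cases B.testBit (81 + m) <;> simp
      · rw [show 81 + 9 * (m % 81 / 9) = m by omega] at e
        revert e
        cases A.testBit m <;> cases B.testBit m <;> cases A.testBit (9 * (m % 81 / 9)) <;>
          cases B.testBit (9 * (m % 81 / 9)) <;> simp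
    · rw [decide_eq_false hd, Bool.and_false, Bool.and_false]
  · rw [Nat.testBit_lt_two_pow (show colMask < 2 ^ m from
      lt_of_lt_of_le (by decide +kernel : colMask < 2 ^ 162) (Nat.pow_le_pow_right (by norm_num) (by omega))),
      Bool.and_false, Bool.and_false]

theorem scanOne_spec (A : ℕ) : ∀ n i : ℕ, scanOne A n i = true →
    ∃ r, i ≤ r ∧ r < i + n ∧ ent A r 0 = 1 ∧ ∀ s, i ≤ s → s < r → ent A s 0 = 0
  | 0, i, h => by cases h
  | n + 1, i, h => by
    change (bif Nat.beq (Nat.land (Nat.shiftRight A (9 * i)) 1) 1 then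
      Nat.beq (Nat.land (Nat.shiftRight A (81 + 9 * i)) 1) 0
      else bif Nat.beq (Nat.land (Nat.shiftRight A (81 + 9 * i)) 1) 1 then false
      else scanOne A n (i + 1)) = true at h
    rw [bitTest, bitTest0, bitTest] at h
    cases h0 : A.testBit (9 * i)
    · rw [h0] at h
      cases h1 : A.testBit (81 + 9 * i)
      · rw [h1] at h
        obtain ⟨r, hr1, hr2, hr3, hr4⟩ := scanOne_spec A n (i + 1) h
        refine ⟨r, by omega, by omega, hr3, fun s hs1 hs2 => ?_⟩
        rcases Nat.eq_or_lt_of_le hs1 with rfl | hs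
        · rw [ent, Nat.add_zero, Nat.add_zero, h0, h1]; rfl
        · exact hr4 s hs hs2
      · rw [h1] at h; cases h
    · rw [h0] at h
      cases h1 : A.testBit (81 + 9 * i)
      · exact ⟨i, le_rfl, by omega, by rw [ent, Nat.add_zero, Nat.add_zero, h0, h1]; rfl,
          fun s hs1 hs2 => absurd hs2 (by omega)⟩
      · rw [h1] at h; cases h

variable {F : Type*} [Field F]

theorem entF_eq_psi (ω : F) (A i j : ℕ) : entF ω A i j = psi ω (ent A i j) := (psi_ent ω A i j).symm

theorem psi_zero (ω : F) : psi ω 0 = 0 := by simp +decide [psi, bitF]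

theorem psi_one (ω : F) : psi ω 1 = 1 := by simp +decide [psi, bitF]

theorem psi_two (ω : F) : psi ω 2 = ω := by simp +decide [psi, bitF]

theorem psi_three (ω : F) : psi ω 3 = 1 + ω := by simp +decide [psi, bitF]

theorem oneN_ent : ∀ w z : F9, ent oneN (ix w) (ix z) = if w = z then 1 else 0 := by decide +kernel

theorem toMat_oneN (ω : F) : toMat ω oneN = 1 := by
  ext w z
  simp only [toMat, entF_eq_psi, oneN_ent, Matrix.one_apply]
  split <;> simp [psi_zero, psi_one]

/-- The code of a power of `ω`. -/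
def pCode (n : ZMod 3) : ℕ := n.val + 1

/-- Codes of the entries of `A_Z`. -/
def cA (Z w z : F9) : ℕ := if w = z then pCode (Z.1 * w.1 + Z.2 * w.2) else 0
/-- Codes of the entries of `E_Z`. -/
def cE (Z w z : F9) : ℕ := if w = z then pCode ((Z.1 - w.1) ^ 2 + (Z.2 - w.2) ^ 2) else 0
/-- Codes of the entries of `D_Z`. -/
def cD (Z w z : F9) : ℕ :=
  if w = z + Z then (if z = 0 then 1 else if Spor.F9.div Z z = Spor.F9.I - Spor.F9.one then 2
    else if Spor.F9.div Z z = -Spor.F9.I - Spor.F9.one then 3 else 1) else 0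
/-- Codes of the entries of `B_Z`. -/
def cB (Z w z : F9) : ℕ := if w = Spor.F9.mul Z z then 1 else 0
/-- Codes of the entries of `C_Z`. -/
def cC (Z w z : F9) : ℕ :=
  if z = 0 then (if w = 0 then 1 else 0)
  else if w = -Spor.F9.div Z z ∨ w = Spor.F9.mul Spor.F9.I (Spor.F9.div Z z) ∨
    w = -Spor.F9.mul Spor.F9.I (Spor.F9.div Z z) then 1 else 0

theorem gensA_ok : ∀ Z w z : F9, ent (genN (ix Z)) (ix w) (ix z) = cA Z w z := by decide +kernel

theorem gensE_ok : ∀ Z w z : F9, ent (genN (9 + ix Z)) (ix w) (ix z) = cE Z w z := by decide +kernel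

theorem gensD_ok : ∀ Z w z : F9, ent (genN (18 + ix Z)) (ix w) (ix z) = cD Z w z := by decide +kernel

theorem gensB_ok : ∀ Z : F9, Z ≠ 0 → ∀ w z : F9, ent (genN (26 + ix Z)) (ix w) (ix z) = cB Z w z := by decide +kernel

theorem gensC_ok : ∀ Z : F9, Z ≠ 0 → ∀ w z : F9, ent (genN (34 + ix Z)) (ix w) (ix z) = cC Z w z := by decide +kernel

variable {ω : F} (h2 : (2 : F) = 0) (hω : ω ^ 2 + ω + 1 = 0)
include h2 hω

theorem psi_code (n : ZMod 3) : psi ω (pCode n) = Spor.omegaPow F ω n := by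
  fin_cases n
  · exact (psi_one ω).trans (pow_zero ω).symm
  · exact (psi_two ω).trans (pow_one ω).symm
  · refine (psi_three ω).trans ?_
    show 1 + ω = ω ^ 2
    linear_combination -hω + (1 + ω) * h2

theorem toMat_genA (Z : F9) : toMat ω (genN (ix Z)) = Spor.j3A F ω Z := by
  ext w z
  simp only [toMat, entF_eq_psi, gensA_ok, cA, Spor.j3A, Matrix.diagonal_apply]
  split <;> simp [psi_zero, psi_code h2 hω]

theorem toMat_genE (Z : F9) : toMat ω (genN (9 + ix Z)) = Spor.j3E F ω Z := by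
  ext w z
  simp only [toMat, entF_eq_psi, gensE_ok, cE, Spor.j3E, Matrix.diagonal_apply]
  split <;> simp [psi_zero, psi_code h2 hω]

theorem toMat_genD (Z : F9) : toMat ω (genN (18 + ix Z)) = Spor.j3D F ω Z := by
  ext w z
  simp only [toMat, entF_eq_psi, gensD_ok, cD, Spor.j3D, Spor.j3Lam, Matrix.of_apply]
  have h3 : psi ω 3 = ω ^ 2 := by rw [psi_three]; linear_combination -hω + (1 + ω) * h2
  split_ifs <;> first | exact psi_zero ω | exact psi_one ω | exact psi_two ω | exact h3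

theorem toMat_genB {Z : F9} (hZ : Z ≠ 0) : toMat ω (genN (26 + ix Z)) = Spor.j3B F Z := by
  ext w z
  simp only [toMat, entF_eq_psi, gensB_ok Z hZ, cB, Spor.j3B, Matrix.of_apply]
  split_ifs <;> first | exact psi_zero ω | exact psi_one ω

theorem toMat_genC {Z : F9} (hZ : Z ≠ 0) : toMat ω (genN (34 + ix Z)) = Spor.j3C F Z := by
  ext w z
  simp only [toMat, entF_eq_psi, gensC_ok Z hZ, cC, Spor.j3C, Matrix.of_apply]
  split_ifs <;> first | exact psi_zero ω | exact psi_one ω

theorem gens_mem_iff (M : Matrix F9 F9 F) : M ∈ Spor.j3Gens F ω ↔ ∃ n < 43, M = toMat ω (genN n) := by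
  simp only [Spor.j3Gens, Set.mem_union, Set.mem_range, Set.mem_ofPred_eq]
  constructor
  · rintro ((((⟨Z, rfl⟩ | ⟨Z, rfl⟩) | ⟨Z, rfl⟩) | ⟨Z, hZ, rfl⟩) | ⟨Z, hZ, rfl⟩) <;> have := ix_lt Z
    · exact ⟨ix Z, by omega, (toMat_genA h2 hω Z).symm⟩
    · exact ⟨9 + ix Z, by omega, (toMat_genE h2 hω Z).symm⟩
    · exact ⟨18 + ix Z, by omega, (toMat_genD h2 hω Z).symm⟩
    · exact ⟨26 + ix Z, by omega, (toMat_genB h2 hω hZ).symm⟩
    · exact ⟨34 + ix Z, by omega, (toMat_genC h2 hω hZ).symm⟩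
  · rintro ⟨n, hn, rfl⟩
    have hne : ∀ {Z : F9}, 0 < ix Z → Z ≠ 0 := fun {Z} h e => by subst e; exact absurd h (by decide)
    by_cases h9 : n < 9
    · obtain ⟨Z, rfl⟩ := ix_surj h9
      exact Or.inl (Or.inl (Or.inl (Or.inl ⟨Z, (toMat_genA h2 hω Z).symm⟩)))
    by_cases h18 : n < 18
    · obtain ⟨Z, hZ⟩ := ix_surj (show n - 9 < 9 by omega)
      exact Or.inl (Or.inl (Or.inl (Or.inr ⟨Z, by rw [← toMat_genE h2 hω Z, hZ, show 9 + (n - 9) = n by omega]⟩)))
    by_cases h27 : n < 27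
    · obtain ⟨Z, hZ⟩ := ix_surj (show n - 18 < 9 by omega)
      exact Or.inl (Or.inl (Or.inr ⟨Z, by rw [← toMat_genD h2 hω Z, hZ, show 18 + (n - 18) = n by omega]⟩))
    by_cases h35 : n < 35
    · obtain ⟨Z, hZ⟩ := ix_surj (show n - 26 < 9 by omega)
      have hZ0 : Z ≠ 0 := hne (by omega)
      exact Or.inl (Or.inr ⟨Z, hZ0, by rw [← toMat_genB h2 hω hZ0, hZ, show 26 + (n - 26) = n by omega]⟩)
    · obtain ⟨Z, hZ⟩ := ix_surj (show n - 34 < 9 by omega)
      have hZ0 : Z ≠ 0 := hne (by omega)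
      exact Or.inr ⟨Z, hZ0, by rw [← toMat_genC h2 hω hZ0, hZ, show 34 + (n - 34) = n by omega]⟩

end Cfsg.Agent.JankoThree
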