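/-
Schreier checks of the certificate for `3.J₃`, evaluated by the kernel.
Main results (namespace `Cfsg.Agent.JankoThree`): `stepY_ok0`, `stepY_ok1`, `stepY_ok2`.
-/
import Cfsg.Agent.Lib.JankoThree.Cert

set_option autoImplicit false
set_option maxRecDepth 100000

namespace Cfsg.Agent.JankoThree

theorem stepY_ok0 : allFrom (stepOK 1) 0 8000 = true := by decide +kernel

theorem stepY_ok1 : allFrom (stepOK 1) 8000 8000 = true := by decide +kernel

theorem stepY_ok2 : allFrom (stepOK 1) 16000 7256 = true := by decide +kernel


end Cfsg.Agent.JankoThree
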