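/-
Checks of the stabiliser and of the transversal for `3.J₃`, evaluated by the kernel.
Main results (namespace `Cfsg.Agent.JankoThree`): `base_ok`, `gen_ok`, `act_ok`, `fix_ok`, `norm_ok`, `par_ok`, `hsSort_ok`,
`hsRank_ok`, `transSort_ok`, `transRank_ok`.
-/
import Cfsg.Agent.Lib.JankoThree.Cert

set_option autoImplicit false
set_option maxRecDepth 100000

namespace Cfsg.Agent.JankoThree

theorem base_ok : baseCheck = true := by decide +kernel

theorem gen_ok : allFrom genOK 0 43 = true := by decide +kernel

theorem act_ok : allFrom actOK 0 6480 = true := by decide +kernel

theorem fix_ok : allFrom fixOK 0 6480 = true := by decide +kernel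

theorem norm_ok : allFrom normOK 0 23256 = true := by decide +kernel

theorem par_ok : allFrom parOK 1 23255 = true := by decide +kernel

theorem hsSort_ok : allFrom hsSortOK 0 6479 = true := by decide +kernel

theorem hsRank_ok : allFrom hsRankOK 0 6480 = true := by decide +kernel

theorem transSort_ok : allFrom transSortOK 0 23255 = true := by decide +kernel

theorem transRank_ok : allFrom transRankOK 0 23256 = true := by decide +kernel


end Cfsg.Agent.JankoThree
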