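/-
The group `3.J₃` from its certificate: membership and order.
Main results (namespace `Cfsg.Agent.JankoThree`): `InD`, `threeJ3_eq`, `mem_iff`, `col_unique`, `product_unique`,
`card_threeJ3`.
-/
import Cfsg.Agent.Lib.JankoThree.Bits
import Cfsg.Agent.Lib.JankoThree.CertStepX
import Cfsg.Agent.Lib.JankoThree.CertStepY
import Cfsg.Agent.Lib.JankoThree.CertSub

set_option autoImplicit false

namespace Cfsg.Agent.JankoThree

open Cfsg.Agent.CosetEnum
open Cfsg.Spor (F9)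
open scoped MatrixGroups

variable {F : Type*} [Field F] {ω : F} (h2 : (2 : F) = 0) (hω : ω ^ 2 + ω + 1 = 0)

theorem base_facts :
    trans 0 = oneN ∧ hs 0 = oneN ∧ hs 1 = smulN 2 oneN ∧ hs 2 = smulN 3 oneN ∧ powN (mulN gX gY) 8 = hs 1 ∧
    gX = mulN (mulN (genN 24) (genN 22)) (genN 35) ∧ gY = mulN (mulN (genN 37) (genN 24)) (genN 26) ∧
    powN gX 19 = oneN ∧ powN gY 19 = oneN ∧ gX ≠ oneN ∧ gY ≠ oneN ∧
    schK linkBA linkIA = kA ∧ schK linkBB linkIB = kB ∧
    linkBA < 2 ∧ linkBB < 2 ∧ linkIA < 23256 ∧ linkIB < 23256 ∧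
    mulN gX gXi = oneN ∧ mulN gXi gX = oneN ∧ mulN gY gYi = oneN ∧ mulN gYi gY = oneN ∧
    mulN kryK kryI = oneN ∧ mulN kryI kryK = oneN ∧
    ∀ k < 9, Nat.land (Nat.shiftRight kryK k) colMask = colC (powN gX k) := by
  have h := base_ok
  simp only [baseCheck, Bool.and_eq_true, Bool.not_eq_true', Nat.blt_eq, beq_eq_false_iff_ne] at h
  obtain ⟨⟨⟨⟨⟨⟨⟨⟨⟨⟨⟨⟨⟨⟨⟨⟨⟨⟨⟨⟨⟨⟨⟨a1, a2⟩, a3⟩, a4⟩, a5⟩, a6⟩, a7⟩, a8⟩, a9⟩, a10⟩, a11⟩, a12⟩, a13⟩, a14⟩, a15⟩, a16⟩,
    a17⟩, a18⟩, a19⟩, a20⟩, a21⟩, a22⟩, a23⟩, a24⟩ := h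
  refine ⟨Nat.eq_of_beq_eq_true a1, Nat.eq_of_beq_eq_true a2, Nat.eq_of_beq_eq_true a3, Nat.eq_of_beq_eq_true a4,
    Nat.eq_of_beq_eq_true a5, Nat.eq_of_beq_eq_true a6, Nat.eq_of_beq_eq_true a7, Nat.eq_of_beq_eq_true a8,
    Nat.eq_of_beq_eq_true a9, Nat.ne_of_beq_eq_false a10, Nat.ne_of_beq_eq_false a11, Nat.eq_of_beq_eq_true a12,
    Nat.eq_of_beq_eq_true a13, a14, a15, a16, a17, Nat.eq_of_beq_eq_true a18, Nat.eq_of_beq_eq_true a19,
    Nat.eq_of_beq_eq_true a20, Nat.eq_of_beq_eq_true a21, Nat.eq_of_beq_eq_true a22, Nat.eq_of_beq_eq_true a23,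
    fun k hk => ?_⟩
  have := allFrom_spec a24 k (Nat.zero_le k) (by omega)
  simp only [force_eq] at this
  exact Nat.eq_of_beq_eq_true this

theorem step_spec {b i : ℕ} (hb : b < 2) (hi : i < 23256) :
    schJ b i < 23256 ∧ schK b i < 6480 ∧
      (schK b i < 3 → mulN (genOf b) (trans i) = smulN (schK b i + 1) (trans (schJ b i))) ∧
      (¬ schK b i < 3 → mulN (genOf b) (trans i) = mulN (trans (schJ b i)) (hs (schK b i))) := by
  have h : stepOK b i = true := by
    interval_cases b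
    · rcases (show i < 8000 ∨ (8000 ≤ i ∧ i < 16000) ∨ 16000 ≤ i by omega) with h | h | h
      · exact allFrom_spec stepX_ok0 i (Nat.zero_le i) (by omega)
      · exact allFrom_spec stepX_ok1 i h.1 (by omega)
      · exact allFrom_spec stepX_ok2 i h (by omega)
    · rcases (show i < 8000 ∨ (8000 ≤ i ∧ i < 16000) ∨ 16000 ≤ i by omega) with h | h | h
      · exact allFrom_spec stepY_ok0 i (Nat.zero_le i) (by omega)
      · exact allFrom_spec stepY_ok1 i h.1 (by omega)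
      · exact allFrom_spec stepY_ok2 i h (by omega)
  simp only [stepOK, force_eq] at h
  rw [Bool.and_eq_true, Bool.and_eq_true, Nat.blt_eq, Nat.blt_eq] at h
  obtain ⟨⟨hj, hk⟩, h⟩ := h
  refine ⟨hj, hk, fun hlt => ?_, fun hlt => ?_⟩
  · rw [show Nat.blt (Nat.shiftRight (schE b i) 15) 3 = true from Nat.blt_eq.mpr hlt, cond_true] at h
    exact Nat.eq_of_beq_eq_true h
  · rw [show Nat.blt (Nat.shiftRight (schE b i) 15) 3 = false from Bool.eq_false_iff.mpr (fun e => hlt (Nat.blt_eq.mp e)),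
      cond_false] at h
    exact Nat.eq_of_beq_eq_true h

theorem par_spec {i : ℕ} (h0 : 0 < i) (hi : i < 23256) :
    ∃ b p, b < 2 ∧ p < i ∧ schJ b p = i ∧ schK b p < 3 := by
  have h := allFrom_spec par_ok i h0 (by omega)
  simp only [parOK, force_eq] at h
  rw [Bool.and_eq_true, Bool.and_eq_true, Nat.blt_eq, Nat.blt_eq] at h
  exact ⟨_, _, Nat.mod_lt _ (by norm_num), h.1, Nat.eq_of_beq_eq_true h.2.1, h.2.2⟩

theorem act_spec {k : ℕ} (hk : k < 6480) :
    actA k < 6480 ∧ actB k < 6480 ∧ actW k < 6480 ∧ mulN (hs kA) (hs k) = hs (actA k) ∧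
      mulN (hs kB) (hs k) = hs (actB k) ∧ smulN 2 (hs k) = hs (actW k) ∧
      (3 ≤ k → ∃ p, p < k ∧ (actA p = k ∨ actB p = k)) := by
  have h := allFrom_spec act_ok k (Nat.zero_le k) (by omega)
  simp only [actOK, force_eq, Bool.and_eq_true, Bool.or_eq_true, Nat.blt_eq] at h
  obtain ⟨⟨⟨⟨⟨⟨h1, h2⟩, h3⟩, h4⟩, h5⟩, h6⟩, h7⟩ := h
  refine ⟨h1, h2, h3, Nat.eq_of_beq_eq_true h4, Nat.eq_of_beq_eq_true h5, Nat.eq_of_beq_eq_true h6, fun hk3 => ?_⟩
  rcases h7 with h7 | ⟨hp, he⟩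
  · omega
  · refine ⟨_, hp, ?_⟩
    cases hb : Nat.beq (Nat.mod (tget 16 128 hparT k) 2) 0 <;> rw [hb] at he
    · exact Or.inr (Nat.eq_of_beq_eq_true he)
    · exact Or.inl (Nat.eq_of_beq_eq_true he)

/-- The scalar `ω` as a matrix unit. -/
def scalarUnit (hω : ω ^ 2 + ω + 1 = 0) : GL F9 F :=
  Matrix.GeneralLinearGroup.mkOfDetNeZero (ω • (1 : Matrix F9 F9 F)) (by
    rw [Matrix.det_smul, Matrix.det_one, mul_one]
    exact pow_ne_zero _ (fun e => by simp [e] at hω))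

section
include h2 hω

theorem omega_cube : ω ^ 3 = 1 := by linear_combination (ω - 1) * hω

theorem psi_pow {c : ℕ} (hc : c = 1 ∨ c = 2 ∨ c = 3) : psi ω c = ω ^ (c - 1) := by
  rcases hc with rfl | rfl | rfl
  · simp [psi_one]
  · simp [psi_two]
  · rw [psi_three]; linear_combination -hω + (1 + ω) * h2

/-- The two generators as matrix units. -/
noncomputable def unitOf (b : ℕ) : GL F9 F :=
  bif Nat.beq b 0 then
    ⟨toMat ω gX, toMat ω gXi,
      by rw [← toMat_mulN h2 hω, base_facts.2.2.2.2.2.2.2.2.2.2.2.2.2.2.2.2.2.1, toMat_oneN],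
      by rw [← toMat_mulN h2 hω, base_facts.2.2.2.2.2.2.2.2.2.2.2.2.2.2.2.2.2.2.1, toMat_oneN]⟩
  else
    ⟨toMat ω gY, toMat ω gYi,
      by rw [← toMat_mulN h2 hω, base_facts.2.2.2.2.2.2.2.2.2.2.2.2.2.2.2.2.2.2.2.1, toMat_oneN],
      by rw [← toMat_mulN h2 hω, base_facts.2.2.2.2.2.2.2.2.2.2.2.2.2.2.2.2.2.2.2.2.1, toMat_oneN]⟩

theorem unitOf_val (b : ℕ) : ((unitOf h2 hω b : GL F9 F) : Matrix F9 F9 F) = toMat ω (genOf b) := by
  rw [unitOf, genOf]
  cases Nat.beq b 0 <;> rfl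

/-- The group generated by the two elements of order 19. -/
noncomputable def genGroup : Subgroup (GL F9 F) :=
  Subgroup.closure {unitOf h2 hω 0, unitOf h2 hω 1}

/-- The matrix of a number lies in the group. -/
def InD (n : ℕ) : Prop := ∃ g ∈ genGroup h2 hω, ((g : GL F9 F) : Matrix F9 F9 F) = toMat ω n

theorem InD.mul {a b : ℕ} (ha : InD h2 hω a) (hb : InD h2 hω b) : InD h2 hω (mulN a b) := by
  obtain ⟨g, hg, hga⟩ := ha
  obtain ⟨k, hk, hkb⟩ := hb
  exact ⟨g * k, mul_mem hg hk, by rw [Units.val_mul, hga, hkb, toMat_mulN h2 hω]⟩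

theorem InD.genOf {b : ℕ} (hb : b < 2) : InD h2 hω (genOf b) := by
  refine ⟨unitOf h2 hω b, Subgroup.subset_closure ?_, unitOf_val h2 hω b⟩
  interval_cases b <;> simp

theorem inD_one : InD h2 hω oneN := ⟨1, one_mem _, by rw [toMat_oneN]; rfl⟩

theorem inD_pow {a : ℕ} (ha : InD h2 hω a) : ∀ n, InD h2 hω (powN a n)
  | 0 => inD_one h2 hω
  | n + 1 => by
    show InD h2 hω (force (powN a n) fun P => mulN a P)
    rw [force_eq]
    exact InD.mul h2 hω ha (inD_pow ha n)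

theorem scalar_mem : scalarUnit hω ∈ genGroup h2 hω := by
  obtain ⟨-, -, h3, -, h5, -⟩ := base_facts
  obtain ⟨g, hg, hge⟩ :=
    inD_pow h2 hω (InD.mul h2 hω (InD.genOf h2 hω (b := 0) (by norm_num)) (InD.genOf h2 hω (b := 1) (by norm_num))) 8
  have e : g = scalarUnit hω := Units.ext <| by
    rw [hge, show genOf 0 = gX from rfl, show genOf 1 = gY from rfl, h5, h3,
      toMat_smulN h2 hω _ _ (Or.inr (Or.inl rfl)), psi_two, toMat_oneN]
    rfl
  exact e ▸ hg

theorem scalarUnit_pow (n : ℕ) : ((scalarUnit hω ^ n : GL F9 F) : Matrix F9 F9 F) = (ω ^ n) • 1 := by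
  rw [Units.val_pow_eq_pow_val]
  show (ω • (1 : Matrix F9 F9 F)) ^ n = _
  rw [smul_pow, one_pow]

theorem InD.smul {a : ℕ} (ha : InD h2 hω a) {c : ℕ} (hc : c = 1 ∨ c = 2 ∨ c = 3) : InD h2 hω (smulN c a) := by
  obtain ⟨g, hg, hga⟩ := ha
  refine ⟨scalarUnit hω ^ (c - 1) * g, mul_mem (pow_mem (scalar_mem h2 hω) _) hg, ?_⟩
  rw [Units.val_mul, scalarUnit_pow h2 hω, hga, toMat_smulN h2 hω _ _ hc, psi_pow h2 hω hc, Matrix.smul_mul, Matrix.one_mul]

theorem InD.of_smul {a : ℕ} {c : ℕ} (hc : c = 1 ∨ c = 2 ∨ c = 3) (ha : InD h2 hω (smulN c a)) : InD h2 hω a := by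
  obtain ⟨g, hg, hga⟩ := ha
  refine ⟨scalarUnit hω ^ (4 - c) * g, mul_mem (pow_mem (scalar_mem h2 hω) _) hg, ?_⟩
  rw [Units.val_mul, scalarUnit_pow h2 hω, hga, toMat_smulN h2 hω _ _ hc, psi_pow h2 hω hc, Matrix.smul_mul, Matrix.one_mul,
    smul_smul, ← pow_add, show 4 - c + (c - 1) = 3 by omega, omega_cube h2 hω, one_smul]

theorem hs_scalar {k : ℕ} (hk : k < 3) : toMat ω (hs k) = psi ω (k + 1) • (1 : Matrix F9 F9 F) := by
  obtain ⟨-, h0, h1, h2', -⟩ := base_facts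
  interval_cases k
  · rw [h0, toMat_oneN, psi_one, one_smul]
  · rw [h1, toMat_smulN h2 hω _ _ (Or.inr (Or.inl rfl)), toMat_oneN]
  · rw [h2', toMat_smulN h2 hω _ _ (Or.inr (Or.inr rfl)), toMat_oneN]

theorem step_mat {b i : ℕ} (hb : b < 2) (hi : i < 23256) :
    schJ b i < 23256 ∧ schK b i < 6480 ∧
      toMat ω (genOf b) * toMat ω (trans i) = toMat ω (trans (schJ b i)) * toMat ω (hs (schK b i)) := by
  obtain ⟨hj, hk, hs1, hs2⟩ := step_spec hb hi
  refine ⟨hj, hk, ?_⟩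
  by_cases h : schK b i < 3
  · rw [← toMat_mulN h2 hω, hs1 h, toMat_smulN h2 hω _ _ (by omega), hs_scalar h2 hω h, Matrix.mul_smul, Matrix.mul_one]
  · rw [← toMat_mulN h2 hω, hs2 h, toMat_mulN h2 hω]

theorem inD_trans : ∀ i, i < 23256 → InD h2 hω (trans i) := by
  intro i
  induction i using Nat.strong_induction_on with
  | _ i ih =>
    intro hi
    rcases Nat.eq_zero_or_pos i with rfl | h0
    · rw [base_facts.1]; exact inD_one h2 hω
    obtain ⟨b, p, hb, hp, hj, hk⟩ := par_spec h0 hi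
    have h := InD.mul h2 hω (InD.genOf h2 hω hb) (ih p hp (by omega))
    rw [(step_spec hb (by omega)).2.2.1 hk, hj] at h
    exact InD.of_smul h2 hω (by omega) h

theorem inD_link {b p : ℕ} (hb : b < 2) (hp : p < 23256) : InD h2 hω (hs (schK b p)) := by
  obtain ⟨hj, -, h⟩ := step_mat h2 hω hb hp
  obtain ⟨g, hg, hgv⟩ := InD.genOf h2 hω hb
  obtain ⟨t, ht, htv⟩ := inD_trans h2 hω p hp
  obtain ⟨u, hu, huv⟩ := inD_trans h2 hω _ hj
  refine ⟨u⁻¹ * (g * t), mul_mem (inv_mem hu) (mul_mem hg ht), ?_⟩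
  rw [Units.val_mul, Units.val_mul, hgv, htv, h, ← huv, ← Matrix.mul_assoc, Units.inv_mul, Matrix.one_mul]

theorem inD_hs : ∀ k, k < 6480 → InD h2 hω (hs k) := by
  obtain ⟨-, h0, h1, h2', -, -, -, -, -, -, -, hA, hB, hbA, hbB, hiA, hiB, -⟩ := base_facts
  intro k
  induction k using Nat.strong_induction_on with
  | _ k ih =>
    intro hk
    by_cases h3 : k < 3
    · interval_cases k
      · rw [h0]; exact inD_one h2 hω
      · rw [h1]; exact InD.smul h2 hω (inD_one h2 hω) (Or.inr (Or.inl rfl))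
      · rw [h2']; exact InD.smul h2 hω (inD_one h2 hω) (Or.inr (Or.inr rfl))
    obtain ⟨p, hp, e⟩ := (act_spec hk).2.2.2.2.2.2 (not_lt.mp h3)
    obtain ⟨-, -, -, eA, eB, -⟩ := act_spec (show p < 6480 by omega)
    rcases e with e | e
    · rw [← e, ← eA, ← hA]
      exact InD.mul h2 hω (inD_link h2 hω hbA hiA) (ih p hp (by omega))
    · rw [← e, ← eB, ← hB]
      exact InD.mul h2 hω (inD_link h2 hω hbB hiB) (ih p hp (by omega))

theorem hs_mul : ∀ k, k < 6480 → ∀ l < 6480, ∃ m < 6480, toMat ω (hs k) * toMat ω (hs l) = toMat ω (hs m) := by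
  intro k
  induction k using Nat.strong_induction_on with
  | _ k ih =>
    intro hk l hl
    by_cases h3 : k < 3
    · have hW : ∀ {q}, q < 6480 → ω • toMat ω (hs q) = toMat ω (hs (actW q)) := fun hq => by
        rw [← (act_spec hq).2.2.2.2.2.1, toMat_smulN h2 hω _ _ (Or.inr (Or.inl rfl)), psi_two]
      rw [hs_scalar h2 hω h3, Matrix.smul_mul, Matrix.one_mul, psi_pow h2 hω (by omega), Nat.add_sub_cancel]
      interval_cases k
      · exact ⟨l, hl, by rw [pow_zero, one_smul]⟩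
      · exact ⟨actW l, (act_spec hl).2.2.1, by rw [pow_one, hW hl]⟩
      · exact ⟨actW (actW l), (act_spec (act_spec hl).2.2.1).2.2.1,
          by rw [pow_two, ← smul_smul, hW hl, hW (act_spec hl).2.2.1]⟩
    obtain ⟨p, hp, e⟩ := (act_spec hk).2.2.2.2.2.2 (not_lt.mp h3)
    obtain ⟨-, -, -, eA, eB, -⟩ := act_spec (show p < 6480 by omega)
    obtain ⟨m, hm, hmv⟩ := ih p hp (by omega) l hl
    obtain ⟨hmA, hmB, -, fA, fB, -⟩ := act_spec hm
    rcases e with e | e
    · exact ⟨actA m, hmA, by rw [← e, ← eA, ← fA, toMat_mulN h2 hω, toMat_mulN h2 hω, Matrix.mul_assoc, hmv]⟩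
    · exact ⟨actB m, hmB, by rw [← e, ← eB, ← fB, toMat_mulN h2 hω, toMat_mulN h2 hω, Matrix.mul_assoc, hmv]⟩

theorem step_product {b i k : ℕ} (hb : b < 2) (hi : i < 23256) (hk : k < 6480) : ∃ j < 23256, ∃ m < 6480,
    toMat ω (genOf b) * (toMat ω (trans i) * toMat ω (hs k)) = toMat ω (trans j) * toMat ω (hs m) := by
  obtain ⟨hj, hk', h⟩ := step_mat h2 hω hb hi
  obtain ⟨m, hm, hmv⟩ := hs_mul h2 hω _ hk' k hk
  exact ⟨_, hj, m, hm, by rw [← Matrix.mul_assoc, h, Matrix.mul_assoc, hmv]⟩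

theorem unitOf_pow_nineteen {b : ℕ} (hb : b < 2) : unitOf h2 hω b ^ 19 = 1 := by
  have hp : ∀ A n, toMat ω (powN A n) = toMat ω A ^ n := fun A n => by
    induction n with
    | zero => rw [pow_zero]; exact toMat_oneN ω
    | succ n ih =>
      show toMat ω (force (powN A n) fun P => mulN A P) = _
      rw [force_eq, toMat_mulN h2 hω, ih, pow_succ']
  refine Units.ext ?_
  rw [Units.val_pow_eq_pow_val, unitOf_val, ← hp]
  obtain ⟨-, -, -, -, -, -, -, hx, hy, -⟩ := base_facts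
  interval_cases b
  · exact (congrArg (toMat ω) hx).trans (toMat_oneN ω)
  · exact (congrArg (toMat ω) hy).trans (toMat_oneN ω)

theorem genGroup_mem_iff (g : GL F9 F) : g ∈ genGroup h2 hω ↔
    ∃ i < 23256, ∃ k < 6480, (g : Matrix F9 F9 F) = toMat ω (trans i) * toMat ω (hs k) := by
  constructor
  · intro hg
    let P : GL F9 F → Prop := fun g => ∃ i < 23256, ∃ k < 6480,
      (g : Matrix F9 F9 F) = toMat ω (trans i) * toMat ω (hs k)
    have hstep : ∀ b < 2, ∀ g, P g → P (unitOf h2 hω b * g) := fun b hb g ⟨i, hi, k, hk, e⟩ => by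
      obtain ⟨j, hj, m, hm, f⟩ := step_product h2 hω hb hi hk
      exact ⟨j, hj, m, hm, by rw [Units.val_mul, unitOf_val, e, f]⟩
    have hiter : ∀ b < 2, ∀ (n : ℕ) g, P g → P (unitOf h2 hω b ^ n * g) := fun b hb n => by
      induction n with
      | zero => intro g h; rwa [pow_zero, one_mul]
      | succ n ih => intro g h; rw [pow_succ', mul_assoc]; exact hstep b hb _ (ih g h)
    refine Subgroup.closure_induction_left (p := fun g _ => P g) ?_ ?_ ?_ hg
    · exact ⟨0, by norm_num, 0, by norm_num, by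
        rw [base_facts.1, base_facts.2.1, toMat_oneN, Matrix.one_mul]; rfl⟩
    · rintro x (rfl | rfl) y hy h
      · exact hstep 0 (by norm_num) y h
      · exact hstep 1 (by norm_num) y h
    · have hinv : ∀ b < 2, (unitOf h2 hω b)⁻¹ = unitOf h2 hω b ^ 18 := fun b hb =>
        inv_eq_of_mul_eq_one_right (by rw [← pow_succ']; exact unitOf_pow_nineteen h2 hω hb)
      rintro x (rfl | rfl) y hy h
      · rw [hinv 0 (by norm_num)]; exact hiter 0 (by norm_num) 18 y h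
      · rw [hinv 1 (by norm_num)]; exact hiter 1 (by norm_num) 18 y h
  · rintro ⟨i, hi, k, hk, e⟩
    obtain ⟨t, ht, htv⟩ := inD_trans h2 hω i hi
    obtain ⟨u, hu, huv⟩ := inD_hs h2 hω k hk
    have : g = t * u := Units.ext (by rw [e, Units.val_mul, htv, huv])
    exact this ▸ mul_mem ht hu

theorem inD_genN {n : ℕ} (hn : n < 43) : InD h2 hω (genN n) := by
  have h := allFrom_spec gen_ok n (Nat.zero_le n) (by omega)
  simp only [genOK, force_eq, Bool.and_eq_true, Nat.blt_eq] at h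
  obtain ⟨⟨hi, hk⟩, e⟩ := h
  rw [Nat.eq_of_beq_eq_true e]
  exact InD.mul h2 hω (inD_trans h2 hω _ hi) (inD_hs h2 hω _ hk)

theorem threeJ3_eq : Spor.threeJ3 F ω = genGroup h2 hω := by
  refine le_antisymm ?_ ?_
  · rw [Spor.threeJ3, Subgroup.closure_le]
    intro g hg
    obtain ⟨n, hn, e⟩ := (gens_mem_iff h2 hω _).mp hg
    obtain ⟨u, hu, huv⟩ := inD_genN h2 hω hn
    exact (Units.ext (e.trans huv.symm) : g = u) ▸ hu
  · have hmem : ∀ n < 43, ∃ g ∈ Spor.threeJ3 F ω, (g : Matrix F9 F9 F) = toMat ω (genN n) := fun n hn => by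
      obtain ⟨u, -, huv⟩ := inD_genN h2 hω hn
      exact ⟨u, Subgroup.subset_closure ((gens_mem_iff h2 hω _).mpr ⟨n, hn, huv⟩), huv⟩
    obtain ⟨-, -, -, -, -, hx, hy, -⟩ := base_facts
    rw [genGroup, Subgroup.closure_le]
    rintro g (rfl | rfl)
    · obtain ⟨a, ha, hav⟩ := hmem 24 (by norm_num)
      obtain ⟨b, hb, hbv⟩ := hmem 22 (by norm_num)
      obtain ⟨c, hc, hcv⟩ := hmem 35 (by norm_num)
      have e : a * b * c = unitOf h2 hω 0 := Units.ext <| by
        rw [Units.val_mul, Units.val_mul, hav, hbv, hcv, ← toMat_mulN h2 hω, ← toMat_mulN h2 hω, unitOf_val, ← hx]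
        rfl
      exact e ▸ mul_mem (mul_mem ha hb) hc
    · obtain ⟨a, ha, hav⟩ := hmem 37 (by norm_num)
      obtain ⟨b, hb, hbv⟩ := hmem 24 (by norm_num)
      obtain ⟨c, hc, hcv⟩ := hmem 26 (by norm_num)
      have e : a * b * c = unitOf h2 hω 1 := Units.ext <| by
        rw [Units.val_mul, Units.val_mul, hav, hbv, hcv, ← toMat_mulN h2 hω, ← toMat_mulN h2 hω, unitOf_val, ← hy]
        rfl
      exact e ▸ mul_mem (mul_mem ha hb) hc

theorem mem_iff (g : GL F9 F) : g ∈ Spor.threeJ3 F ω ↔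
    ∃ i < 23256, ∃ k < 6480, (g : Matrix F9 F9 F) = toMat ω (trans i) * toMat ω (hs k) := by
  rw [threeJ3_eq h2 hω]
  exact genGroup_mem_iff h2 hω g

/-! ### Uniqueness -/

theorem hs_col {k : ℕ} (hk : k < 6480) :
    ∃ c : F, c ≠ 0 ∧ ∀ w : F9, toMat ω (hs k) w 0 = if w = 0 then c else 0 := by
  have h := allFrom_spec fix_ok k (Nat.zero_le k) (by omega)
  simp only [fixOK, force_eq, Bool.or_eq_true] at h
  have hc : colC (hs k) = 1 ∨ colC (hs k) = 2 ^ 81 ∨ colC (hs k) = 1 + 2 ^ 81 := by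
    rcases h with (h | h) | h
    · exact Or.inl (Nat.eq_of_beq_eq_true h)
    · exact Or.inr (Or.inl (Nat.eq_of_beq_eq_true h))
    · exact Or.inr (Or.inr (Nat.eq_of_beq_eq_true h))
  have key : ∀ i < 9, if i = 0 then ent (colC (hs k)) i 0 ≠ 0 else ent (colC (hs k)) i 0 = 0 := by
    rcases hc with e | e | e <;> rw [e] <;> decide +kernel
  refine ⟨psi ω (ent (hs k) 0 0), psi_ne_zero h2 hω (ent_lt _ _ _) ?_, fun w => ?_⟩
  · have := key 0 (by norm_num)
    rwa [if_pos rfl, ent_colC _ (by norm_num)] at this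
  · show entF ω (hs k) (ix w) 0 = _
    rw [entF_eq_psi]
    split_ifs with hw
    · subst hw; rfl
    · have := key (ix w) (ix_lt w)
      rw [if_neg (fun e => hw (ix_inj w 0 (e.trans rfl))), ent_colC _ (ix_lt w)] at this
      rw [this, psi_zero]

theorem product_col {i k : ℕ} (hk : k < 6480) : ∃ c : F, c ≠ 0 ∧
    ∀ w : F9, (toMat ω (trans i) * toMat ω (hs k)) w 0 = c * toMat ω (trans i) w 0 := by
  obtain ⟨c, hc, hcol⟩ := hs_col h2 hω hk
  refine ⟨c, hc, fun w => ?_⟩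
  rw [Matrix.mul_apply, Finset.sum_eq_single (0 : F9)]
  · rw [hcol, if_pos rfl, mul_comm]
  · intro b _ hb; rw [hcol, if_neg hb, mul_zero]
  · intro h; exact absurd (Finset.mem_univ _) h

/-- Proportional images of the base vector come from the same transversal element. -/
theorem col_unique {i j : ℕ} (hi : i < 23256) (hj : j < 23256) {c d : F} (hc : c ≠ 0) (hd : d ≠ 0)
    (h : ∀ w : F9, c * toMat ω (trans i) w 0 = d * toMat ω (trans j) w 0) : i = j := by
  have hni := allFrom_spec norm_ok i (Nat.zero_le i) (by omega)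
  have hnj := allFrom_spec norm_ok j (Nat.zero_le j) (by omega)
  simp only [normOK, force_eq] at hni hnj
  obtain ⟨r, -, hr, hr1, hr0⟩ := scanOne_spec _ 9 0 hni
  obtain ⟨s, -, hs', hs1, hs0⟩ := scanOne_spec _ 9 0 hnj
  have he : ∀ q < 9, c * psi ω (ent (trans i) q 0) = d * psi ω (ent (trans j) q 0) := fun q hq => by
    obtain ⟨w, rfl⟩ := ix_surj hq
    rw [← entF_eq_psi, ← entF_eq_psi]
    exact h w
  have hrs : r = s := by
    rcases lt_trichotomy r s with hl | hl | hl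
    · have := he r (by omega)
      rw [hr1, psi_one, hs0 r (Nat.zero_le r) hl, psi_zero, mul_one, mul_zero] at this
      exact absurd this hc
    · exact hl
    · have := he s (by omega)
      rw [hs1, psi_one, hr0 s (Nat.zero_le s) hl, psi_zero, mul_one, mul_zero] at this
      exact absurd this.symm hd
  subst hrs
  have hcd : c = d := by
    have := he r (by omega)
    rwa [hr1, hs1, psi_one, mul_one, mul_one] at this
  subst hcd
  have hcol : colC (trans i) = colC (trans j) := colC_eq_of_ent fun q hq =>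
    psi_inj h2 hω (ent_lt _ _ _) (ent_lt _ _ _) (mul_left_cancel₀ hc (he q hq))
  have hmono : ∀ a b, a < b → b < 23256 →
      colC (trans (tget 16 128 tpermT a)) < colC (trans (tget 16 128 tpermT b)) := by
    intro a b hab
    induction b with
    | zero => omega
    | succ b ih =>
      intro hb
      have hs := Nat.blt_eq.mp (allFrom_spec transSort_ok b (Nat.zero_le b) (by omega))
      rcases Nat.lt_succ_iff_lt_or_eq.mp hab with hl | rfl
      · exact lt_trans (ih hl (by omega)) hs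
      · exact hs
  have hrk : ∀ q < 23256, ∃ a < 23256, tget 16 128 tpermT a = q := fun q hq => by
    have := allFrom_spec transRank_ok q (Nat.zero_le q) (by omega)
    simp only [transRankOK, force_eq, Bool.and_eq_true, Nat.blt_eq] at this
    exact ⟨_, this.1, Nat.eq_of_beq_eq_true this.2⟩
  obtain ⟨a, ha, rfl⟩ := hrk i hi
  obtain ⟨b, hb, rfl⟩ := hrk j hj
  rcases lt_trichotomy a b with hl | rfl | hl
  · exact absurd hcol (hmono a b hl hb).ne
  · rfl
  · exact absurd hcol (hmono b a hl ha).ne'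

theorem hs_inj {k l : ℕ} (hk : k < 6480) (hl : l < 6480) (h : toMat ω (hs k) = toMat ω (hs l)) : k = l := by
  have e : hs k = hs l := toMat_inj h2 hω (tget_lt _ _ _ _) (tget_lt _ _ _ _) h
  have hmono : ∀ a b, a < b → b < 6480 → hs (tget 16 128 hpermT a) < hs (tget 16 128 hpermT b) := by
    intro a b hab
    induction b with
    | zero => omega
    | succ b ih =>
      intro hb
      have hs := Nat.blt_eq.mp (allFrom_spec hsSort_ok b (Nat.zero_le b) (by omega))
      rcases Nat.lt_succ_iff_lt_or_eq.mp hab with hl | rfl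
      · exact lt_trans (ih hl (by omega)) hs
      · exact hs
  have hrk : ∀ q < 6480, ∃ a < 6480, tget 16 128 hpermT a = q := fun q hq => by
    have := allFrom_spec hsRank_ok q (Nat.zero_le q) (by omega)
    simp only [hsRankOK, force_eq, Bool.and_eq_true, Nat.blt_eq] at this
    exact ⟨_, this.1, Nat.eq_of_beq_eq_true this.2⟩
  obtain ⟨a, ha, rfl⟩ := hrk k hk
  obtain ⟨b, hb, rfl⟩ := hrk l hl
  rcases lt_trichotomy a b with hlt | rfl | hlt
  · exact absurd e (hmono a b hlt hb).ne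
  · rfl
  · exact absurd e (hmono b a hlt ha).ne'

theorem product_unique {i j k l : ℕ} (hi : i < 23256) (hj : j < 23256) (hk : k < 6480) (hl : l < 6480)
    (h : toMat ω (trans i) * toMat ω (hs k) = toMat ω (trans j) * toMat ω (hs l)) : i = j ∧ k = l := by
  obtain ⟨c, hc, hcol⟩ := product_col h2 hω (i := i) hk
  obtain ⟨d, hd, hdol⟩ := product_col h2 hω (i := j) hl
  have hij : i = j := col_unique h2 hω hi hj hc hd fun w => by rw [← hcol, ← hdol, h]
  subst hij
  refine ⟨rfl, hs_inj h2 hω hk hl ?_⟩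
  obtain ⟨t, -, htv⟩ := inD_trans h2 hω i hi
  rw [← htv] at h
  simpa [← Matrix.mul_assoc] using congrArg (fun M => ((t⁻¹ : GL F9 F) : Matrix F9 F9 F) * M) h

theorem card_threeJ3 : Nat.card (Spor.threeJ3 F ω) = 150698880 := by
  have hex : ∀ p : Fin 23256 × Fin 6480, ∃ g : Spor.threeJ3 F ω,
      ((g : GL F9 F) : Matrix F9 F9 F) = toMat ω (trans p.1) * toMat ω (hs p.2) := fun p => by
    obtain ⟨t, ht, htv⟩ := inD_trans h2 hω p.1 p.1.2
    obtain ⟨u, hu, huv⟩ := inD_hs h2 hω p.2 p.2.2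
    exact ⟨⟨t * u, by rw [threeJ3_eq h2 hω]; exact mul_mem ht hu⟩, by rw [Units.val_mul, htv, huv]⟩
  choose f hf using hex
  have hbij : Function.Bijective f := by
    refine ⟨fun p q e => ?_, fun g => ?_⟩
    · have h := (hf p).symm.trans ((congrArg (fun x : Spor.threeJ3 F ω => ((x : GL F9 F) : Matrix F9 F9 F)) e).trans (hf q))
      obtain ⟨a, b⟩ := product_unique h2 hω p.1.2 q.1.2 p.2.2 q.2.2 h
      exact Prod.ext (Fin.ext a) (Fin.ext b)
    · obtain ⟨i, hi, k, hk, e⟩ := (mem_iff h2 hω g).mp g.2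
      exact ⟨(⟨i, hi⟩, ⟨k, hk⟩), Subtype.ext (Units.ext ((hf (⟨i, hi⟩, ⟨k, hk⟩)).trans e.symm))⟩
  rw [← Nat.card_congr (Equiv.ofBijective f hbij), Nat.card_prod, Nat.card_fin, Nat.card_fin]

end

end Cfsg.Agent.JankoThree
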