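/-
The centre of `3.J₃`.
Main results (namespace `Cfsg.Agent.JankoThree`): `scalar_mem_threeJ3`, `center_threeJ3`, `card_center`.
-/
import Cfsg.Agent.Lib.JankoThree.Group

set_option autoImplicit false

namespace Cfsg.Agent.JankoThree

open Cfsg.Spor (F9)
open scoped MatrixGroups

variable {F : Type*} [Field F] {ω : F} (h2 : (2 : F) = 0) (hω : ω ^ 2 + ω + 1 = 0)
include h2 hω

theorem omega_ne_one : ω ≠ 1 := fun e => by
  subst e
  exact one_ne_zero (α := F) (by linear_combination hω - h2)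

theorem omega_ne_zero : ω ≠ 0 := fun e => by simp [e] at hω

theorem omegaPow_inj {m n : ZMod 3} (h : Spor.omegaPow F ω m = Spor.omegaPow F ω n) : m = n := by
  rw [← psi_code h2 hω, ← psi_code h2 hω] at h
  have hm := ZMod.val_lt m
  have hn := ZMod.val_lt n
  have e := psi_inj h2 hω (by unfold pCode; omega) (by unfold pCode; omega) h
  exact ZMod.val_injective 3 (by unfold pCode at e; omega)

theorem scalar_mem_threeJ3 : scalarUnit hω ∈ Spor.threeJ3 F ω := by
  rw [threeJ3_eq h2 hω]; exact scalar_mem h2 hω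

theorem scalar_pow_three : scalarUnit hω ^ 3 = (1 : GL F9 F) :=
  Units.ext (by rw [scalarUnit_pow h2 hω, omega_cube h2 hω, one_smul]; rfl)

theorem scalar_ne_one : scalarUnit hω ≠ (1 : GL F9 F) := fun e => by
  have h := congrArg (fun g : GL F9 F => (g : Matrix F9 F9 F) 0 0) e
  change (ω • (1 : Matrix F9 F9 F)) 0 0 = (1 : Matrix F9 F9 F) 0 0 at h
  rw [Matrix.smul_apply, Matrix.one_apply_eq, smul_eq_mul, mul_one] at h
  exact omega_ne_one h2 hω h

theorem exists_mem_gens {M : Matrix F9 F9 F} (hM : M ∈ Spor.j3Gens F ω) :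
    ∃ g ∈ Spor.threeJ3 F ω, (g : Matrix F9 F9 F) = M := by
  obtain ⟨n, hn, e⟩ := (gens_mem_iff h2 hω M).mp hM
  obtain ⟨u, hu, huv⟩ := inD_genN h2 hω hn
  exact ⟨u, by rw [threeJ3_eq h2 hω]; exact hu, huv.trans e.symm⟩

theorem central_scalar {z : GL F9 F} (hz : ∀ g ∈ Spor.threeJ3 F ω, g * z = z * g) :
    ∃ d : F, d ≠ 0 ∧ (z : Matrix F9 F9 F) = d • (1 : Matrix F9 F9 F) := by
  have hoff : ∀ w v : F9, w ≠ v → (z : Matrix F9 F9 F) w v = 0 := by
    intro w v hwv
    obtain ⟨Z, hZ⟩ : ∃ Z : F9, Z.1 * w.1 + Z.2 * w.2 ≠ Z.1 * v.1 + Z.2 * v.2 := by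
      revert w v; decide
    obtain ⟨g, hg, hgv⟩ := exists_mem_gens h2 hω (M := Spor.j3A F ω Z)
      (Or.inl (Or.inl (Or.inl (Or.inl ⟨Z, rfl⟩))))
    have e := congrArg (fun x : GL F9 F => (x : Matrix F9 F9 F) w v) (hz g hg)
    simp only [Units.val_mul, hgv, Spor.j3A, Matrix.diagonal_mul, Matrix.mul_diagonal] at e
    by_contra h0
    exact hZ (omegaPow_inj h2 hω (mul_right_cancel₀ h0 (e.trans (mul_comm _ _))))
  have hshift : ∀ Z : F9, (z : Matrix F9 F9 F) Z Z = (z : Matrix F9 F9 F) 0 0 := by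
    intro Z
    obtain ⟨g, hg, hgv⟩ := exists_mem_gens h2 hω (M := Spor.j3D F ω Z)
      (Or.inl (Or.inl (Or.inr ⟨Z, rfl⟩)))
    have e := congrArg (fun x : GL F9 F => (x : Matrix F9 F9 F) Z 0) (hz g hg)
    simp only [Units.val_mul, hgv, Matrix.mul_apply] at e
    rw [Finset.sum_eq_single (0 : F9) (fun b _ hb => by rw [hoff b 0 hb, mul_zero]) (by simp),
      Finset.sum_eq_single Z (fun b _ hb => by rw [hoff Z b (Ne.symm hb), zero_mul]) (by simp)] at e
    have hl : Spor.j3D F ω Z Z 0 = 1 := by simp [Spor.j3D, Spor.j3Lam]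
    rw [hl, one_mul, mul_one] at e
    exact e.symm
  refine ⟨(z : Matrix F9 F9 F) 0 0, fun h0 => ?_, ?_⟩
  · have hz0 : (z : Matrix F9 F9 F) = 0 := by
      ext w v
      by_cases h : w = v
      · subst h; rw [hshift, h0]; rfl
      · rw [hoff w v h]; rfl
    have := z.inv_mul
    rw [hz0, Matrix.mul_zero] at this
    exact one_ne_zero (congrFun (congrFun this.symm 0) 0)
  · ext w v
    rw [Matrix.smul_apply, Matrix.one_apply]
    split_ifs with h
    · subst h; rw [hshift, smul_eq_mul, mul_one]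
    · rw [hoff w v h, smul_zero]

theorem center_map : (Subgroup.center (Spor.threeJ3 F ω)).map (Spor.threeJ3 F ω).subtype =
    Subgroup.zpowers (scalarUnit hω) := by
  refine le_antisymm ?_ (Subgroup.zpowers_le.mpr ⟨⟨_, scalar_mem_threeJ3 h2 hω⟩, ?_, rfl⟩)
  · rintro _ ⟨z, hz, rfl⟩
    obtain ⟨d, hd, he⟩ := central_scalar h2 hω (z := (z : GL F9 F)) fun g hg =>
      congrArg Subtype.val (Subgroup.mem_center_iff.mp hz ⟨g, hg⟩)
    obtain ⟨i, hi, k, hk, e⟩ := (mem_iff h2 hω _).mp z.2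
    obtain ⟨c, hc, hcol⟩ := product_col h2 hω (i := i) hk
    have ht0 : toMat ω (trans 0) = 1 := by rw [base_facts.1, toMat_oneN]
    have hi0 : i = 0 := col_unique h2 hω hi (by norm_num) hc hd fun w => by
      rw [← hcol, ← e, he, ht0]; rfl
    subst hi0
    rw [ht0, Matrix.one_mul] at e
    have hd0 : d = psi ω (ent (hs k) 0 0) := by
      rw [psi_ent]
      have : entF ω (hs k) 0 0 = ((z : GL F9 F) : Matrix F9 F9 F) 0 0 := (congrFun (congrFun e 0) 0).symm
      rw [this, he, Matrix.smul_apply, Matrix.one_apply_eq, smul_eq_mul, mul_one]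
    have hlt := ent_lt (hs k) 0 0
    have hne : ent (hs k) 0 0 ≠ 0 := fun h => hd (by rw [hd0, h, psi_zero])
    refine Subgroup.mem_zpowers_iff.mpr ⟨(ent (hs k) 0 0 - 1 : ℕ), ?_⟩
    rw [zpow_natCast]
    refine Units.ext ?_
    rw [scalarUnit_pow h2 hω]
    show _ = ((z : GL F9 F) : Matrix F9 F9 F)
    rw [he, hd0, psi_pow h2 hω (by omega)]
  · exact Subgroup.mem_center_iff.mpr fun g => Subtype.ext (Units.ext (by
      show ((g : GL F9 F) : Matrix F9 F9 F) * (ω • (1 : Matrix F9 F9 F)) = (ω • (1 : Matrix F9 F9 F)) * _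
      rw [Matrix.mul_smul, Matrix.smul_mul, Matrix.mul_one, Matrix.one_mul]))

theorem card_center : Nat.card (Subgroup.center (Spor.threeJ3 F ω)) = 3 := by
  haveI : Fact (Nat.Prime 3) := ⟨Nat.prime_three⟩
  rw [← Subgroup.card_map_of_injective (f := (Spor.threeJ3 F ω).subtype) Subtype.val_injective, center_map h2 hω,
    Nat.card_zpowers, orderOf_eq_prime (scalar_pow_three h2 hω) (scalar_ne_one h2 hω)]

end Cfsg.Agent.JankoThree
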