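/-
A criterion for the simplicity of the central quotient of a group of order `150698880`.
Main results (namespace `Cfsg.Agent.JankoThree`): `card_centralizer_modEq`, `pow513_conj`, `simple_of_facts`.
-/
import Cfsg.Agent.EqLemmas
import Mathlib

set_option autoImplicit false

namespace Cfsg.Agent.JankoThree

open Subgroup
open scoped Pointwise

variable {G : Type*} [Group G] [Finite G]

/-- An element of prime order `p` normalising a subgroup fixes as many of its points as there are, modulo `p`. -/
theorem card_centralizer_modEq {p : ℕ} [Fact p.Prime] {x : G} (hx : orderOf x = p) (R : Subgroup G)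
    (hn : x ∈ normalizer (R : Set G)) :
    Nat.card R ≡ Nat.card (R ⊓ centralizer ({x} : Set G) : Subgroup G) [MOD p] := by
  let f : zpowers x →* MulAut R := R.normalizerMonoidHom.comp (Subgroup.inclusion (zpowers_le.mpr hn))
  letI : MulAction (zpowers x) R := MulAction.compHom R f
  have hp : IsPGroup p (zpowers x) := IsPGroup.of_card (n := 1) (by rw [Nat.card_zpowers, hx, pow_one])
  have h0 := hp.card_modEq_card_fixedPoints R
  suffices e : MulAction.fixedPoints (zpowers x) R ≃ (R ⊓ centralizer ({x} : Set G) : Subgroup G) by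
    rwa [Nat.card_congr e] at h0
  refine
    { toFun := fun r => ⟨(r.1 : G), r.1.2, mem_centralizer_singleton_iff.mpr ?_⟩
      invFun := fun r => ⟨⟨r.1, r.2.1⟩, fun h => ?_⟩
      left_inv := fun r => rfl
      right_inv := fun r => rfl }
  · have h := congrArg Subtype.val (r.2 ⟨x, mem_zpowers x⟩)
    change x * (r.1 : G) * x⁻¹ = r.1 at h
    exact (mul_inv_eq_iff_eq_mul.mp h).symm
  · obtain ⟨k, hk⟩ := mem_zpowers_iff.mp h.2
    refine Subtype.ext ?_
    change (h : G) * r.1 * (h : G)⁻¹ = r.1
    have hc : Commute x r.1 := (mem_centralizer_singleton_iff.mp r.2.2).symm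
    rw [← hk, (hc.zpow_left k).eq, mul_inv_cancel_right]

theorem pow_mul_pow_ne_modEq {p : ℕ} {n : ℕ} (h : ∀ a, 1 ≤ a → a ≤ n → p ^ a % 19 ≠ 1) {a : ℕ} (ha : a ≤ n)
    (e : p ^ a ≡ 1 [MOD 19]) : a = 0 := by
  by_contra h0
  exact h a (Nat.one_le_iff_ne_zero.mpr h0) ha e

/-- Centralisers of all elements of order 19 have exponents dividing 513, if one of them has. -/
theorem pow513_conj (hG : Nat.card G = 150698880) {x : G} (hx : orderOf x = 19)
    (hC : ∀ c, Commute c x → c ^ 513 = 1) {x' : G} (hx' : orderOf x' = 19) {c : G} (hc : Commute c x') :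
    c ^ 513 = 1 := by
  haveI : Fact (Nat.Prime 19) := ⟨by norm_num⟩
  have hf : (Nat.card G).factorization 19 = 1 := by
    rw [hG, show (150698880 : ℕ) = 19 * 7931520 from rfl, Nat.factorization_mul (by norm_num) (by norm_num),
      Finsupp.add_apply, Nat.Prime.factorization_self (by norm_num),
      Nat.factorization_eq_zero_of_not_dvd (by norm_num)]
  let P : Sylow 19 G := Sylow.ofCard (zpowers x) (by rw [Nat.card_zpowers, hx, hf, pow_one])
  let Q : Sylow 19 G := Sylow.ofCard (zpowers x') (by rw [Nat.card_zpowers, hx', hf, pow_one])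
  obtain ⟨g, hg⟩ := MulAction.exists_smul_eq G Q P
  have h : g * x' * g⁻¹ ∈ zpowers x := by
    have e := congrArg (fun S : Sylow 19 G => (S : Subgroup G)) hg
    change MulAut.conj g • zpowers x' = zpowers x at e
    rw [← e]
    exact Subgroup.smul_mem_pointwise_smul x' (MulAut.conj g) _ (mem_zpowers x')
  have hz : zpowers (g * x' * g⁻¹) = zpowers x := by
    refine Subgroup.eq_of_le_of_card_ge (zpowers_le.mpr h) ?_
    rw [Nat.card_zpowers, Nat.card_zpowers, hx, show g * x' * g⁻¹ = MulAut.conj g x' from rfl,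
      MulEquiv.orderOf_eq, hx']
  obtain ⟨k, hk⟩ := mem_zpowers_iff.mp (hz ▸ mem_zpowers x)
  have hcx : Commute (g * c * g⁻¹) x := by
    rw [← hk]
    exact (Commute.conj hc g).zpow_right k
  have := hC _ hcx
  rw [conj_pow, conj_eq_one_iff] at this
  exact this

/-- The central quotient is simple. -/
theorem simple_of_facts (hG : Nat.card G = 150698880) (hZ : Nat.card (center G) = 3) {x y : G}
    (hx : orderOf x = 19) (hy : orderOf y = 19) (hxy : closure ({x, y} : Set G) = ⊤)
    (hC : ∀ c, Commute c x → c ^ 513 = 1) :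
    IsSimpleGroup (G ⧸ center G) ∧ Nat.card (G ⧸ center G) = 50232960 := by
  haveI : Fact (Nat.Prime 19) := ⟨by norm_num⟩
  have hJ : Nat.card (G ⧸ center G) = 50232960 := by
    have := Subgroup.card_eq_card_quotient_mul_card_subgroup (center G)
    rw [hG, hZ] at this
    omega
  haveI : Nontrivial (G ⧸ center G) := Finite.one_lt_card_iff_nontrivial.mp (by omega)
  refine ⟨⟨fun N hN => ?_⟩, hJ⟩
  haveI := hN
  let M : Subgroup G := N.comap (QuotientGroup.mk' (center G))
  haveI hM : M.Normal := inferInstance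
  have hZM : center G ≤ M := QuotientGroup.le_comap_mk' _ N
  have hquot : ∀ (H : Subgroup G) [H.Normal], 19 ∣ Nat.card H → H = ⊤ := by
    intro H _ h19
    have hcop : Nat.Coprime 19 (Nat.card (G ⧸ H)) := by
      refine (Nat.Prime.coprime_iff_not_dvd (by norm_num)).mpr fun hd => ?_
      have := Nat.mul_dvd_mul hd h19
      rw [← Subgroup.card_eq_card_quotient_mul_card_subgroup H, hG] at this
      norm_num at this
    have hmem : ∀ z : G, orderOf z = 19 → z ∈ H := fun z hz => by
      rw [← QuotientGroup.eq_one_iff, ← orderOf_eq_one_iff]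
      refine Nat.eq_one_of_dvd_coprimes hcop ?_ (orderOf_dvd_natCard _)
      rw [← hz]
      exact orderOf_map_dvd (QuotientGroup.mk' H) z
    rw [eq_top_iff, ← hxy, closure_le]
    rintro z (rfl | rfl)
    · exact hmem z hx
    · exact hmem z hy
  by_cases h19 : 19 ∣ Nat.card M
  · right
    have hT : M = ⊤ := hquot M h19
    rw [eq_top_iff]
    intro q _
    obtain ⟨g, rfl⟩ := QuotientGroup.mk'_surjective (center G) q
    exact (show g ∈ M by rw [hT]; exact mem_top g)
  left
  have hdvd : ∀ R : Subgroup G, Nat.card R ∣ 150698880 := fun R => hG ▸ R.card_subgroup_dvd_card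
  have hprime : ∀ r, r.Prime → r ∣ Nat.card M → r = 3 := by
    intro r hr hrM
    by_contra hr3
    haveI : Fact r.Prime := ⟨hr⟩
    obtain ⟨P⟩ := (inferInstance : Nonempty (Sylow r M))
    let R : Subgroup G := (P : Subgroup M).map M.subtype
    have htop : normalizer (R : Set G) ⊔ M = ⊤ := Sylow.normalizer_sup_eq_top P
    have h19N : 19 ∣ Nat.card (normalizer (R : Set G)) := by
      have hs : Function.Surjective ((QuotientGroup.mk' M).comp (normalizer (R : Set G)).subtype) := by
        intro q
        obtain ⟨g, rfl⟩ := QuotientGroup.mk'_surjective M q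
        obtain ⟨n, hn, m, hm, rfl⟩ :=
          Subgroup.mem_sup_of_normal_right.mp (show g ∈ normalizer (R : Set G) ⊔ M by rw [htop]; exact mem_top g)
        refine ⟨⟨n, hn⟩, ?_⟩
        change QuotientGroup.mk' M n = QuotientGroup.mk' M (n * m)
        rw [map_mul, (QuotientGroup.eq_one_iff (N := M) m).mpr hm |> fun e : QuotientGroup.mk' M m = 1 => e, mul_one]
      refine dvd_trans ?_ (Subgroup.card_dvd_of_surjective _ hs)
      rcases (Nat.Prime.dvd_mul (by norm_num : (19 : ℕ).Prime)).mp
        ((Subgroup.card_eq_card_quotient_mul_card_subgroup M) ▸ (hG ▸ (by norm_num : (19 : ℕ) ∣ 150698880))) with h | h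
      · exact h
      · exact absurd h h19
    obtain ⟨x', hx'⟩ := exists_prime_orderOf_dvd_card' 19 h19N
    have hx'G : orderOf (x' : G) = 19 := by rw [Subgroup.orderOf_coe, hx']
    have hmod := card_centralizer_modEq hx'G R x'.2
    have hRp : IsPGroup r R := P.2.map _
    have hC1 : Nat.card (R ⊓ centralizer ({(x' : G)} : Set G) : Subgroup G) = 1 := by
      rw [Subgroup.card_eq_one, Subgroup.eq_bot_iff_forall]
      intro c hc
      obtain ⟨k, hk⟩ := hRp ⟨c, hc.1⟩
      have hk' : c ^ r ^ k = 1 := congrArg Subtype.val hk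
      have h513 := pow513_conj hG hx hC hx'G (mem_centralizer_singleton_iff.mp hc.2)
      have hr513 : Nat.Coprime (r ^ k) 513 := by
        refine Nat.Coprime.pow_left _ ((Nat.Prime.coprime_iff_not_dvd hr).mpr fun h => ?_)
        rcases (Nat.Prime.dvd_mul hr).mp (show r ∣ 3 ^ 3 * 19 by norm_num; exact h) with h | h
        · exact hr3 ((Nat.prime_dvd_prime_iff_eq hr Nat.prime_three).mp (hr.dvd_of_dvd_pow h))
        · exact h19 ((Nat.prime_dvd_prime_iff_eq hr (by norm_num)).mp h ▸ hrM)
      rw [← pow_one c, ← show Nat.gcd (r ^ k) 513 = 1 from hr513]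
      exact pow_gcd_eq_one.mpr ⟨hk', h513⟩
    rw [hC1] at hmod
    obtain ⟨a, ha⟩ := IsPGroup.iff_card.mp hRp
    have had : r ^ a ∣ 150698880 := ha ▸ hdvd R
    have hr' : r = 2 ∨ r = 5 ∨ r = 17 := by
      have h1 : r ∣ 2 ^ 7 * 3 ^ 6 * 5 * 17 * 19 := hrM.trans ((hdvd M).trans (by norm_num))
      have hq : ∀ q : ℕ, q.Prime → ∀ n, r ∣ q ^ n → r = q := fun q hq n h =>
        (Nat.prime_dvd_prime_iff_eq hr hq).mp (hr.dvd_of_dvd_pow h)
      rcases (Nat.Prime.dvd_mul hr).mp h1 with h | h
      · rcases (Nat.Prime.dvd_mul hr).mp h with h | h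
        · rcases (Nat.Prime.dvd_mul hr).mp h with h | h
          · rcases (Nat.Prime.dvd_mul hr).mp h with h | h
            · exact Or.inl (hq 2 Nat.prime_two 7 h)
            · exact absurd (hq 3 Nat.prime_three 6 h) hr3
          · exact Or.inr (Or.inl ((Nat.prime_dvd_prime_iff_eq hr (by norm_num)).mp h))
        · exact Or.inr (Or.inr ((Nat.prime_dvd_prime_iff_eq hr (by norm_num)).mp h))
      · exact absurd ((Nat.prime_dvd_prime_iff_eq hr (by norm_num)).mp h ▸ hrM) h19
    have ha0 : a = 0 := by
      rw [ha] at hmod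
      rcases hr' with rfl | rfl | rfl
      · refine pow_mul_pow_ne_modEq (n := 7) (by decide) ?_ hmod
        by_contra hn
        have := (pow_dvd_pow 2 (show 8 ≤ a by omega)).trans had
        norm_num at this
      · refine pow_mul_pow_ne_modEq (n := 1) (by decide) ?_ hmod
        by_contra hn
        have := (pow_dvd_pow 5 (show 2 ≤ a by omega)).trans had
        norm_num at this
      · refine pow_mul_pow_ne_modEq (n := 1) (by decide) ?_ hmod
        by_contra hn
        have := (pow_dvd_pow 17 (show 2 ≤ a by omega)).trans had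
        norm_num at this
    rw [ha0, pow_zero] at ha
    have : Nat.card (P : Subgroup M) = 1 := by
      rw [← Subgroup.card_map_of_injective (f := M.subtype) M.subtype_injective]
      exact ha
    exact P.ne_bot_of_dvd_card hrM (Subgroup.card_eq_one.mp this)
  obtain ⟨a, ha⟩ : ∃ a, Nat.card M = 3 ^ a := ⟨_, Nat.eq_prime_pow_of_unique_prime_dvd Nat.card_pos.ne'
    fun {r} hr h => hprime r hr h⟩
  have hMc : ∀ z : G, orderOf z = 19 → z ∈ centralizer (M : Set G) := fun z hz => by
    have hmod := card_centralizer_modEq hz M (by rw [normalizer_eq_top]; exact mem_top z)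
    obtain ⟨c, hc, hcard⟩ := (Nat.dvd_prime_pow Nat.prime_three).mp
      (ha ▸ Subgroup.card_dvd_of_le (inf_le_left : M ⊓ centralizer ({z} : Set G) ≤ M))
    have ha6 : a ≤ 6 := by
      by_contra hn
      have := (pow_dvd_pow 3 (show 7 ≤ a by omega)).trans (ha ▸ hdvd M)
      norm_num at this
    rw [ha, hcard] at hmod
    have hca : c = a := by
      have h7 : ∀ u < 7, ∀ v < 7, 3 ^ u % 19 = 3 ^ v % 19 → v = u := by decide
      exact h7 a (by omega) c (by omega) hmod
    have hle : M ≤ centralizer ({z} : Set G) := inf_eq_left.mp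
      (Subgroup.eq_of_le_of_card_ge inf_le_left (by rw [ha, hcard, hca]))
    rw [Subgroup.mem_centralizer_iff]
    exact fun m hm => mem_centralizer_singleton_iff.mp (hle hm)
  have hMZ : M ≤ center G := by
    intro m hm
    rw [Subgroup.mem_center_iff]
    intro g
    have hg : g ∈ centralizer (M : Set G) := by
      have : closure ({x, y} : Set G) ≤ centralizer (M : Set G) := by
        rw [closure_le]
        rintro z (rfl | rfl)
        · exact hMc z hx
        · exact hMc z hy
      exact this (hxy ▸ mem_top g)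
    exact (Subgroup.mem_centralizer_iff.mp hg m hm).symm
  rw [Subgroup.eq_bot_iff_forall]
  intro q hq
  obtain ⟨g, rfl⟩ := QuotientGroup.mk'_surjective (center G) q
  exact (QuotientGroup.eq_one_iff g).mpr (hMZ hq)

end Cfsg.Agent.JankoThree
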