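/-
Centralisers of the element of order 19, and the simplicity of `J₃`.
Main results (namespace `Cfsg.Agent.JankoThree`): `centralizer_pow`, `simple_J3`.
-/
import Cfsg.Agent.Lib.JankoThree.Center
import Cfsg.Agent.Lib.JankoThree.SimpleCriterion

set_option autoImplicit false

namespace Cfsg.Agent.JankoThree

open Cfsg.Spor (F9)
open scoped MatrixGroups

variable {F : Type*} [Field F] {ω : F} (h2 : (2 : F) = 0) (hω : ω ^ 2 + ω + 1 = 0)
include h2 hω

theorem toMat_powN (A : ℕ) : ∀ n, toMat ω (powN A n) = toMat ω A ^ n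
  | 0 => by rw [pow_zero]; exact toMat_oneN ω
  | n + 1 => by
    show toMat ω (Cfsg.Agent.CosetEnum.force (powN A n) fun P => mulN A P) = _
    rw [Cfsg.Agent.CosetEnum.force_eq, toMat_mulN h2 hω, toMat_powN A n, pow_succ']

theorem kry_apply (w z : F9) : toMat ω kryK w z = (toMat ω gX ^ ix z) w 0 := by
  have h := base_facts.2.2.2.2.2.2.2.2.2.2.2.2.2.2.2.2.2.2.2.2.2.2.2 (ix z) (ix_lt z)
  rw [← toMat_powN h2 hω]
  show entF ω kryK (ix w) (ix z) = entF ω (powN gX (ix z)) (ix w) 0
  rw [entF_eq_psi, entF_eq_psi, ← ent_colC (powN gX (ix z)) (ix_lt w), ← h]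
  congr 1
  show ent kryK (ix w) (ix z) = ent ((kryK >>> ix z) &&& colMask) (ix w) 0
  rw [ent, ent, Nat.testBit_land, Nat.testBit_land, colMask_testBit _ (by have := ix_lt w; omega),
    colMask_testBit _ (by have := ix_lt w; omega), Nat.testBit_shiftRight, Nat.testBit_shiftRight,
    decide_eq_true (show (9 * ix w + 0) % 9 = 0 by omega), decide_eq_true (show (81 + 9 * ix w + 0) % 9 = 0 by omega),
    Bool.and_true, Bool.and_true, show ix z + (9 * ix w + 0) = 9 * ix w + ix z by omega,
    show ix z + (81 + 9 * ix w + 0) = 81 + 9 * ix w + ix z by omega]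

theorem kry_inverse : toMat ω kryK * toMat ω kryI = 1 := by
  obtain ⟨-, -, -, -, -, -, -, -, -, -, -, -, -, -, -, -, -, -, -, -, -, h, -⟩ := base_facts
  rw [← toMat_mulN h2 hω, h, toMat_oneN]

theorem eq_zero_of_commute {A : Matrix F9 F9 F} (hA : Commute A (toMat ω gX)) (h0 : ∀ w, A w 0 = 0) : A = 0 := by
  have hK : A * toMat ω kryK = 0 := by
    ext w z
    have : (A * toMat ω kryK) w z = (A * toMat ω gX ^ ix z) w 0 := by
      simp only [Matrix.mul_apply, kry_apply h2 hω]
    rw [this, (hA.pow_right _).eq, Matrix.mul_apply]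
    simp [h0]
  calc A = A * (toMat ω kryK * toMat ω kryI) := by rw [kry_inverse h2 hω, Matrix.mul_one]
    _ = 0 := by rw [← Matrix.mul_assoc, hK, Matrix.zero_mul]

/-- The values of the model lie in the field with four elements. -/
theorem toMat_four (A : ℕ) (w z : F9) : toMat ω A w z ^ 4 = toMat ω A w z := by
  show entF ω A (ix w) (ix z) ^ 4 = entF ω A (ix w) (ix z)
  rw [entF_eq_psi]
  have := ent_lt A (ix w) (ix z)
  have h3 := omega_cube h2 hω
  interval_cases ent A (ix w) (ix z)
  · rw [psi_zero]; ring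
  · rw [psi_one]; ring
  · rw [psi_two]; linear_combination ω * h3
  · rw [psi_three]; linear_combination (2 * ω + 3 * ω ^ 2 + 2 * ω ^ 3) * h2 + ω * h3

theorem four_add {a b : F} (ha : a ^ 4 = a) (hb : b ^ 4 = b) : (a + b) ^ 4 = a + b := by
  linear_combination ha + hb + (2 * a ^ 3 * b + 3 * a ^ 2 * b ^ 2 + 2 * a * b ^ 3) * h2

theorem mul_four {A B : Matrix F9 F9 F} (hA : ∀ w z, A w z ^ 4 = A w z) (hB : ∀ w z, B w z ^ 4 = B w z)
    (w z : F9) : (A * B) w z ^ 4 = (A * B) w z := by
  rw [Matrix.mul_apply]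
  refine Finset.sum_induction _ (fun x => x ^ 4 = x) (fun a b => four_add h2 hω) (by ring) fun v _ => ?_
  rw [mul_pow, hA, hB]

open Polynomial in
theorem commute_pow_frobenius {A : Matrix F9 F9 F} (hA : Commute A (toMat ω gX)) (hA4 : ∀ w z, A w z ^ 4 = A w z)
    {N n q r : ℕ} (hN : N = 2 ^ n) (hq : N = 19 * q + 1) (hr : N = 4 ^ r) : A ^ N = A := by
  let a : F9 → F := fun z => (toMat ω kryI * A) z 0
  let p : F[X] := ∑ z : F9, C (a z) * Polynomial.X ^ ix z
  have hp : A = aeval (toMat ω gX) p := by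
    refine sub_eq_zero.mp (eq_zero_of_commute h2 hω (hA.sub_left ?_) fun w => ?_)
    · show aeval (toMat ω gX) p * toMat ω gX = toMat ω gX * aeval (toMat ω gX) p
      conv_lhs => arg 2; rw [← aeval_X (R := F) (toMat ω gX)]
      conv_rhs => arg 1; rw [← aeval_X (R := F) (toMat ω gX)]
      rw [← map_mul, ← map_mul, mul_comm]
    · rw [Matrix.sub_apply, sub_eq_zero]
      have e : aeval (toMat ω gX) p w 0 = (toMat ω kryK * (toMat ω kryI * A)) w 0 := by
        simp only [p, map_sum, map_mul, aeval_C, map_pow, aeval_X, Matrix.sum_apply, ← Algebra.smul_def,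
          Matrix.smul_apply, smul_eq_mul, Matrix.mul_apply, kry_apply h2 hω]
        exact Finset.sum_congr rfl fun z _ => by rw [mul_comm]; simp only [a, Matrix.mul_apply]
      rw [e, ← Matrix.mul_assoc, kry_inverse h2 hω, Matrix.one_mul]
  have ha : ∀ z, a z ^ N = a z := fun z => by
    have h4 : a z ^ 4 = a z := mul_four h2 hω (toMat_four h2 hω kryI) hA4 z 0
    have : ∀ n, a z ^ 4 ^ n = a z := fun n => by
      induction n with
      | zero => rw [pow_zero, pow_one]
      | succ n ih => rw [pow_succ, pow_mul, ih, h4]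
    rw [hr]
    exact this r
  haveI : CharP F 2 := (CharP.charP_iff_prime_eq_zero Nat.prime_two).mpr (by exact_mod_cast h2)
  have hX : toMat ω gX ^ N = toMat ω gX := by
    obtain ⟨-, -, -, -, -, -, -, h, -⟩ := base_facts
    have h19 : toMat ω gX ^ 19 = 1 := by rw [← toMat_powN h2 hω, h, toMat_oneN]
    rw [hq, pow_succ, pow_mul, h19, one_pow, one_mul]
  have hpp : p ^ N = ∑ z : F9, C (a z) * (Polynomial.X ^ N) ^ ix z := by
    rw [hN, sum_pow_char_pow, ← hN]
    exact Finset.sum_congr rfl fun z _ => by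
      rw [mul_pow, ← C_pow, ha, ← pow_mul, ← pow_mul, mul_comm (ix z)]
  conv_lhs => rw [hp]
  rw [← map_pow, hpp]
  conv_rhs => rw [hp]
  simp only [p, map_sum, map_mul, aeval_C, map_pow, aeval_X, hX]

/-- Elements of the group which centralise the element of order 19 have orders dividing 513. -/
theorem centralizer_pow (c : Spor.threeJ3 F ω) (hc : Commute (c : GL F9 F) (unitOf h2 hω 0)) : c ^ 513 = 1 := by
  obtain ⟨i, -, k, -, e⟩ := (mem_iff h2 hω _).mp c.2
  have h := commute_pow_frobenius h2 hω (A := ((c : GL F9 F) : Matrix F9 F9 F)) (by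
    have := congrArg Units.val hc.eq
    rw [Units.val_mul, Units.val_mul, unitOf_val] at this
    exact this) (by rw [e]; exact mul_four h2 hω (toMat_four h2 hω _) (toMat_four h2 hω _))
    (N := 262144) (n := 18) (q := 13797) (r := 9) (by norm_num) (by norm_num) (by norm_num)
  have h' : c ^ 262144 = c := Subtype.ext (Units.ext (by
    simpa only [SubmonoidClass.coe_pow, Units.val_pow_eq_pow_val] using h))
  have h1 : c ^ 262143 = 1 := by
    have : c ^ 262143 * c = 1 * c := by rw [← pow_succ, one_mul]; exact h'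
    exact mul_right_cancel this
  have h3 : c ^ 150698880 = 1 := by rw [← card_threeJ3 h2 hω]; exact pow_card_eq_one'
  rw [show (513 : ℕ) = Nat.gcd 262143 150698880 by norm_num]
  exact pow_gcd_eq_one.mpr ⟨h1, h3⟩

theorem simple_J3 : IsSimpleGroup (Spor.J3 F ω) ∧ Nat.card (Spor.J3 F ω) = 50232960 := by
  haveI : Finite (Spor.threeJ3 F ω) := Nat.finite_of_card_ne_zero (by rw [card_threeJ3 h2 hω]; norm_num)
  haveI : Fact (Nat.Prime 19) := ⟨by norm_num⟩
  have hmem : ∀ b < 2, unitOf h2 hω b ∈ Spor.threeJ3 F ω := fun b hb => by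
    rw [threeJ3_eq h2 hω]
    exact Subgroup.subset_closure (by interval_cases b <;> simp)
  have hlt : gX < 2 ^ 162 ∧ gY < 2 ^ 162 ∧ oneN < 2 ^ 162 := by decide +kernel
  have hord : ∀ b (hb : b < 2), orderOf (⟨_, hmem b hb⟩ : Spor.threeJ3 F ω) = 19 := fun b hb => by
    refine orderOf_eq_prime (Subtype.ext (unitOf_pow_nineteen h2 hω hb)) fun e => ?_
    have e' : toMat ω (genOf b) = toMat ω oneN := by
      rw [← unitOf_val h2 hω b, toMat_oneN]
      exact congrArg (fun x : Spor.threeJ3 F ω => ((x : GL F9 F) : Matrix F9 F9 F)) e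
    obtain ⟨-, -, -, -, -, -, -, -, -, hx, hy, -⟩ := base_facts
    interval_cases b
    · exact hx (toMat_inj h2 hω hlt.1 hlt.2.2 e')
    · exact hy (toMat_inj h2 hω hlt.2.1 hlt.2.2 e')
  refine simple_of_facts (card_threeJ3 h2 hω) (card_center h2 hω) (hord 0 (by norm_num)) (hord 1 (by norm_num)) ?_
    fun c hc => centralizer_pow h2 hω c (congrArg Subtype.val hc)
  refine Subgroup.map_injective (f := (Spor.threeJ3 F ω).subtype) Subtype.val_injective ?_
  rw [MonoidHom.map_closure, ← MonoidHom.range_eq_map, Subgroup.range_subtype, Set.image_pair]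
  exact (threeJ3_eq h2 hω).symm

end Cfsg.Agent.JankoThree
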