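/-
The checks for the automorphisms of `J₃`, evaluated by the kernel.
Main results (namespace `Cfsg.Agent.JankoThree`): `auBase_ok`, `auField_ok`, `auMark_ok`, `auStep_ok`, `auCent_ok`,
`auCand_ok`, `auOutside_ok`.
-/
import Cfsg.Agent.Lib.JankoThree.Cert
import Cfsg.Agent.Lib.JankoThree.DataAut

set_option autoImplicit false
set_option maxRecDepth 100000

namespace Cfsg.Agent.JankoThree

open Cfsg.Agent.CosetEnum

/-- A valid packed pair of factors. -/
noncomputable def auPairOK (n e : ℕ) : Bool :=
  Nat.blt (Nat.land e 32767) 23256 && Nat.blt (Nat.shiftRight e 15) 6480 &&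
    Nat.beq n (mulN (trans (Nat.land e 32767)) (hs (Nat.shiftRight e 15)))

/-- Equality up to a scalar. -/
noncomputable def eqScal (A B : ℕ) : Bool :=
  force A fun A => force B fun B =>
    Nat.beq A (smulN 1 B) || Nat.beq A (smulN 2 B) || Nat.beq A (smulN 3 B)

/-- Entrywise conjugation. -/
noncomputable def frobN (A : ℕ) : ℕ :=
  force (Nat.land A planeMask) fun A0 => force (Nat.land (Nat.shiftRight A 81) planeMask) fun A1 =>
    Nat.lor (Nat.xor A0 A1) (Nat.shiftLeft A1 81)

/-- The twisted field automorphism. -/
noncomputable def sigN (A : ℕ) : ℕ := mulN (mulN auC (mulN (mulN auP (frobN A)) auP)) auCi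

/-- Powers by squaring: the value is the product of `acc` with the power of exponent `n % 2 ^ f`. -/
noncomputable def powBits (f : ℕ) : ℕ → ℕ → ℕ → ℕ :=
  Nat.rec (motive := fun _ => ℕ → ℕ → ℕ → ℕ) (fun _ _ acc => acc)
    (fun _ ih A n acc => force (bif Nat.beq (Nat.land n 1) 1 then mulN acc A else acc) fun acc' =>
      force (mulN A A) fun A' => force (Nat.shiftRight n 1) fun n' => ih A' n' acc') f

/-- A power with exponent below `2 ^ 19`. -/
noncomputable def powQ (A n : ℕ) : ℕ := powBits 19 A n oneN

/-- The image of `gY` as a word. -/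
noncomputable def auWord : ℕ :=
  mulN auB (mulN auS (mulN auS (mulN gX (mulN gX (mulN auSi (mulN auBi (mulN gX (mulN auB (mulN auS gX)))))))))

/-- Basic facts. -/
noncomputable def auBase : Bool :=
  auPairOK auB (tget 32 4 auFacT 0) && auPairOK auS (tget 32 4 auFacT 1) &&
    auPairOK (sigN gX) (tget 32 4 auFacT 2) && auPairOK (sigN gY) (tget 32 4 auFacT 3) &&
    Nat.beq (mulN auB auBi) oneN && Nat.beq (mulN auS auSi) oneN && Nat.beq (mulN auC auCi) oneN &&
    Nat.beq (mulN auCi auC) oneN && Nat.beq (mulN auP auP) oneN &&
    Nat.beq (sigN gX) gXi && Nat.beq (mulN auB gX) (mulN (powN gX 4) auB) &&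
    eqScal auWord gY &&
    Nat.blt auTI 23256 && Nat.beq (mulN (trans auTI) auTinv) oneN &&
    Nat.beq (mulN (powN auB 3) (trans auTI)) (mulN (trans auTI) (hs auH)) &&
    Nat.blt auH 6480 && Nat.blt auH2 6480 && Nat.blt auH3 6480 &&
    Nat.beq (hs auH2) (smulN 2 (hs auH)) && Nat.beq (hs auH3) (smulN 3 (hs auH)) &&
    eqScal (powN (mulN gX auS) 5) oneN && eqScal (powN (mulN auB auS) 3) oneN

/-- A generator of the commutant. -/
noncomputable def auField : Bool :=
  Nat.beq (mulN auR gX) (mulN gX auR) && Nat.beq (mulN auR auRi) oneN &&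
    Nat.beq (powQ auR 262143) oneN && !Nat.beq (powQ auR 87381) oneN && !Nat.beq (powQ auR 37449) oneN &&
    !Nat.beq (powQ auR 13797) oneN && !Nat.beq (powQ auR 3591) oneN &&
    (Nat.beq auNineC 1 || Nat.beq auNineC 2 || Nat.beq auNineC 3) &&
    Nat.beq (powQ auR 4599) (smulN auNineC (powN gX auNineE)) &&
    Nat.beq (colC (powQ auR 29127)) auOutW

/-- A marked element. -/
noncomputable def auMarked (k : ℕ) : Bool := Nat.beq (tget 1 128 auMarkT k) 1

/-- Closure of the marked elements. -/
noncomputable def auMarkOK (k : ℕ) : Bool :=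
  bif auMarked k then
    force (hs k) fun h =>
      force (tget 16 128 auCjAT k) (fun a => Nat.blt a 6480 && auMarked a && Nat.beq (mulN (hs a) (hs kA)) (mulN (hs kA) h)) &&
      force (tget 16 128 auCjBT k) (fun b => Nat.blt b 6480 && auMarked b && Nat.beq (mulN (hs b) (hs kB)) (mulN (hs kB) h))
  else true

/-- The element of a fixed coset. -/
noncomputable def auFixC (q : ℕ) : ℕ :=
  force (tget 32 4 auFixT q) fun e =>
    mulN (trans (Nat.land e 32767)) (hs (Nat.land (Nat.shiftRight e 15) 8191))

/-- Action on the transversal, and the list of fixed cosets. -/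
noncomputable def auStepOK (i : ℕ) : Bool :=
  force (tget 32 64 auStepT i) fun e =>
    Nat.blt (Nat.land e 32767) 23256 && Nat.blt (Nat.shiftRight e 15) 6480 &&
      Nat.beq (mulN (hs auH) (trans i)) (mulN (trans (Nat.land e 32767)) (hs (Nat.shiftRight e 15))) &&
      bif Nat.beq (Nat.land e 32767) i && auMarked (Nat.shiftRight e 15) then
        force (tget 8 128 auFixPosT i) fun q => Nat.blt q 9 && force (tget 32 4 auFixT q) fun f =>
          Nat.beq (Nat.land f 32767) i && Nat.blt (Nat.land (Nat.shiftRight f 15) 8191) 6480 &&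
            force (auFixC q) fun c => eqScal (mulN (hs auH) c) (mulN c (hs auH))
      else true

/-- The centraliser modulo scalars in the line stabiliser. -/
noncomputable def auCentOK (k : ℕ) : Bool :=
  force (hs k) fun h =>
    bif eqScal (mulN (hs auH) h) (mulN h (hs auH)) then
      force (tget 8 128 auCentPosT k) fun r => Nat.blt r 81 && Nat.beq (tget 16 64 auCentT r) k
    else true

/-- A candidate image of the third generator. -/
noncomputable def auCand (q r : ℕ) : ℕ :=
  mulN (mulN (trans auTI) (mulN (auFixC q) (hs (tget 16 64 auCentT r)))) auTinv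

/-- The relations single out the third generator. -/
noncomputable def auCandOK (n : ℕ) : Bool :=
  force (auCand (Nat.div n 81) (Nat.mod n 81)) fun c =>
    bif eqScal (powN (mulN auB c) 3) oneN then
      bif eqScal (powN (mulN gX c) 5) oneN then eqScal c auS else true
    else true

/-- A power of the generator of the commutant outside the group. -/
noncomputable def auOutOK (i : ℕ) : Bool :=
  force auOutW fun w => force (trans i) fun t =>
    !Nat.beq w (colC (smulN 1 t)) && !Nat.beq w (colC (smulN 2 t)) && !Nat.beq w (colC (smulN 3 t))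

theorem auBase_ok : auBase = true := by decide +kernel

theorem auField_ok : auField = true := by decide +kernel

theorem auMark_ok : allFrom auMarkOK 0 6480 = true := by decide +kernel

theorem auStep_ok : allFrom auStepOK 0 23256 = true := by decide +kernel

theorem auCent_ok : allFrom auCentOK 0 6480 = true := by decide +kernel

theorem auCand_ok : allFrom auCandOK 0 729 = true := by decide +kernel

theorem auOutside_ok : allFrom auOutOK 0 23256 = true := by decide +kernel

end Cfsg.Agent.JankoThree
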