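/-
The centraliser of an element of order 19 in `J₃`.
Main results (namespace `Cfsg.Agent.JankoThree`): `toMat_powBits`, `eq_of_eqScal`, `eqScal_of_eq`, `commute_lift`,
`centralizer_genX`.
-/
import Cfsg.Agent.Lib.JankoThree.Central
import Cfsg.Agent.Lib.JankoThree.CertAut

set_option autoImplicit false

namespace Cfsg.Agent.JankoThree

open Cfsg.Agent.CosetEnum
open Cfsg.Spor (F9)
open scoped MatrixGroups

theorem eqScal_cases {A B : ℕ} (h : eqScal A B = true) : ∃ c, (c = 1 ∨ c = 2 ∨ c = 3) ∧ A = smulN c B := by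
  simp only [eqScal, force_eq, Bool.or_eq_true] at h
  rcases h with (h | h) | h
  · exact ⟨1, Or.inl rfl, Nat.eq_of_beq_eq_true h⟩
  · exact ⟨2, Or.inr (Or.inl rfl), Nat.eq_of_beq_eq_true h⟩
  · exact ⟨3, Or.inr (Or.inr rfl), Nat.eq_of_beq_eq_true h⟩

variable {F : Type*} [Field F] {ω : F} (h2 : (2 : F) = 0) (hω : ω ^ 2 + ω + 1 = 0)
include h2 hω

/-- The quotient map onto `J₃`. -/
abbrev proj : Spor.threeJ3 F ω →* Spor.J3 F ω := QuotientGroup.mk' (Subgroup.center (Spor.threeJ3 F ω))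

theorem toMat_powBits : ∀ f A n acc, toMat ω (powBits f A n acc) = toMat ω acc * toMat ω A ^ (n % 2 ^ f)
  | 0, A, n, acc => by rw [pow_zero, Nat.mod_one, pow_zero, Matrix.mul_one]; rfl
  | f + 1, A, n, acc => by
    show toMat ω (force (bif Nat.beq (Nat.land n 1) 1 then mulN acc A else acc) fun acc' =>
      force (mulN A A) fun A' => force (Nat.shiftRight n 1) fun n' => powBits f A' n' acc') = _
    simp only [force_eq]
    rw [toMat_powBits f, toMat_mulN h2 hω, show Nat.shiftRight n 1 = n / 2 from by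
        show n >>> 1 = n / 2; rw [Nat.shiftRight_eq_div_pow, pow_one],
      show Nat.land n 1 = n % 2 from Nat.and_one_is_mod n, ← pow_two, ← pow_mul,
      show n % 2 ^ (f + 1) = n % 2 + 2 * (n / 2 % 2 ^ f) by rw [pow_succ', Nat.mod_mul]]
    rcases Nat.mod_two_eq_zero_or_one n with h | h <;> rw [h]
    · rw [show Nat.beq 0 1 = false from rfl, cond_false, zero_add]
    · rw [show Nat.beq 1 1 = true from rfl, cond_true, toMat_mulN h2 hω, pow_add, pow_one, Matrix.mul_assoc]

theorem toMat_powQ (A : ℕ) {n : ℕ} (hn : n < 524288) : toMat ω (powQ A n) = toMat ω A ^ n := by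
  rw [powQ, toMat_powBits h2 hω, toMat_oneN, Matrix.one_mul,
    Nat.mod_eq_of_lt (by rw [show (2 : ℕ) ^ 19 = 524288 by norm_num]; exact hn)]

theorem proj_eq_of_eqScal {A B : ℕ} (h : eqScal A B = true) {g g' : Spor.threeJ3 F ω}
    (hg : ((g : GL F9 F) : Matrix F9 F9 F) = toMat ω A) (hg' : ((g' : GL F9 F) : Matrix F9 F9 F) = toMat ω B) :
    proj g = proj g' := by
  obtain ⟨c, hc, rfl⟩ := eqScal_cases h
  have hzv : (scalarUnit hω : GL F9 F) ^ (c - 1) ∈ Spor.threeJ3 F ω := pow_mem (scalar_mem_threeJ3 h2 hω) _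
  have hzc : (⟨_, hzv⟩ : Spor.threeJ3 F ω) ∈ Subgroup.center (Spor.threeJ3 F ω) := by
    have : (scalarUnit hω : GL F9 F) ^ (c - 1) ∈ (Subgroup.center (Spor.threeJ3 F ω)).map (Spor.threeJ3 F ω).subtype := by
      rw [center_map h2 hω]; exact pow_mem (Subgroup.mem_zpowers _) _
    obtain ⟨z, hz, e⟩ := this
    exact (show z = ⟨_, hzv⟩ from Subtype.ext e) ▸ hz
  refine ((QuotientGroup.mk'_eq_mk' _).mpr ⟨_, hzc, ?_⟩).symm
  refine val_inj h2 hω ?_
  show ((g' : GL F9 F) : Matrix F9 F9 F) * (((scalarUnit hω : GL F9 F) ^ (c - 1) : GL F9 F) : Matrix F9 F9 F) = _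
  rw [scalarUnit_pow h2 hω, hg, hg', toMat_smulN h2 hω _ _ hc, psi_pow h2 hω hc, Matrix.mul_smul, Matrix.mul_one]

theorem mem_center_scalar {z : Spor.threeJ3 F ω} (hz : z ∈ Subgroup.center (Spor.threeJ3 F ω)) :
    ∃ c, (c = 1 ∨ c = 2 ∨ c = 3) ∧ ((z : GL F9 F) : Matrix F9 F9 F) = psi ω c • 1 := by
  have h1 : (z : GL F9 F) ∈ Subgroup.zpowers (scalarUnit hω) := by rw [← center_map h2 hω]; exact ⟨z, hz, rfl⟩
  obtain ⟨n, hn⟩ := Subgroup.mem_zpowers_iff.mp h1
  refine ⟨(n % 3).toNat + 1, by omega, ?_⟩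
  have : (scalarUnit hω : GL F9 F) ^ (n % 3).toNat = (z : GL F9 F) := by
    rw [← hn, ← zpow_natCast, Int.toNat_of_nonneg (Int.emod_nonneg _ (by norm_num))]
    conv_rhs => rw [← Int.emod_add_mul_ediv n 3, zpow_add, zpow_mul]
    rw [show (scalarUnit hω : GL F9 F) ^ (3 : ℤ) = 1 from (zpow_natCast _ 3).trans (scalar_pow_three h2 hω),
      one_zpow, mul_one]
  rw [← this, scalarUnit_pow h2 hω, psi_pow h2 hω (by omega), Nat.add_sub_cancel]

theorem eqScal_of_eq {A B : ℕ} (hA : A < 2 ^ 162) {g g' : Spor.threeJ3 F ω}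
    (hg : ((g : GL F9 F) : Matrix F9 F9 F) = toMat ω A) (hg' : ((g' : GL F9 F) : Matrix F9 F9 F) = toMat ω B)
    (h : proj g = proj g') : eqScal A B = true := by
  obtain ⟨z, hz, e⟩ := (QuotientGroup.mk'_eq_mk' _).mp h.symm
  obtain ⟨c, hc, hzc⟩ := mem_center_scalar h2 hω hz
  have he : A = smulN c B := by
    refine toMat_inj h2 hω hA (smulN_lt _ _) ?_
    rw [← hg, ← e, toMat_smulN h2 hω _ _ hc, ← hg']
    show ((g' : GL F9 F) : Matrix F9 F9 F) * ((z : GL F9 F) : Matrix F9 F9 F) = _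
    rw [hzc, Matrix.mul_smul, Matrix.mul_one]
  subst he
  simp only [eqScal, force_eq, Bool.or_eq_true]
  rcases hc with rfl | rfl | rfl
  · exact Or.inl (Or.inl (Nat.beq_refl _))
  · exact Or.inl (Or.inr (Nat.beq_refl _))
  · exact Or.inr (Nat.beq_refl _)

/-- The element `gX` in the group. -/
noncomputable def genX : Spor.threeJ3 F ω :=
  ⟨unitOf h2 hω 0, by rw [threeJ3_eq h2 hω]; exact Subgroup.subset_closure (Set.mem_insert _ _)⟩

theorem genX_val : ((genX h2 hω : GL F9 F) : Matrix F9 F9 F) = toMat ω gX := unitOf_val h2 hω 0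

theorem genX_pow : genX h2 hω ^ 19 = 1 := Subtype.ext (unitOf_pow_nineteen h2 hω (by norm_num))

theorem commute_lift {c : Spor.threeJ3 F ω} (h : Commute (proj c) (proj (genX h2 hω))) :
    Commute c (genX h2 hω) := by
  haveI : Finite (Spor.threeJ3 F ω) := Nat.finite_of_card_ne_zero (by rw [card_threeJ3 h2 hω]; norm_num)
  set x := genX h2 hω
  obtain ⟨z, hz, e⟩ := (QuotientGroup.mk'_eq_mk' _).mp
    (show proj x = proj (c * x * c⁻¹) by
      rw [map_mul, map_mul, map_inv]; exact (mul_inv_eq_iff_eq_mul.mpr h.eq).symm)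
  have h19 : z ^ 19 = 1 := by
    have h1 : (x * z) ^ 19 = 1 := by rw [e, conj_pow, genX_pow h2 hω, mul_one, mul_inv_cancel]
    rwa [Commute.mul_pow (Subgroup.mem_center_iff.mp hz x), genX_pow h2 hω, one_mul] at h1
  have h3 : z ^ 3 = 1 := by
    have := pow_card_eq_one' (G := Subgroup.center (Spor.threeJ3 F ω)) (x := ⟨z, hz⟩)
    rw [card_center h2 hω] at this
    exact congrArg Subtype.val this
  have hz1 : z = 1 := by
    rw [← pow_one z, show (1 : ℕ) = Nat.gcd 19 3 from rfl]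
    exact pow_gcd_eq_one.mpr ⟨h19, h3⟩
  rw [hz1, mul_one] at e
  exact (eq_mul_inv_iff_mul_eq.mp e).symm

omit hω in
theorem four_sub_subset (x : F) (hx : x ^ 4 = x) (hω : ω ^ 2 + ω + 1 = 0) :
    ∃ n : Fin 4, psi ω n.1 = x := by
  have h : x * ((x - 1) * ((x - ω) * (x - (1 + ω)))) = 0 := by
    linear_combination (norm := ring_nf) hx + (x ^ 2 - x) * hω + (-(1 + ω) * x ^ 3 + ω * x ^ 2 + x) * h2
  simp only [mul_eq_zero, sub_eq_zero] at h
  rcases h with h | h | h | h
  · exact ⟨0, by rw [h]; exact psi_zero ω⟩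
  · exact ⟨1, by rw [h]; exact psi_one ω⟩
  · exact ⟨2, by rw [h]; exact psi_two ω⟩
  · exact ⟨3, by rw [h]; exact psi_three ω⟩

theorem commutant_cyclic {N : ℕ} (hN : N + 1 = 4 ^ 9) (R : GL F9 F) (hR : orderOf R = N)
    (hRc : Commute (R : Matrix F9 F9 F) (toMat ω gX)) (hR4 : ∀ w z, (R : Matrix F9 F9 F) w z ^ 4 = (R : Matrix F9 F9 F) w z)
    (C : Matrix F9 F9 F) (hC : Commute C (toMat ω gX)) (hC4 : ∀ w z, C w z ^ 4 = C w z) (hC0 : C ≠ 0) :
    ∃ j : ℕ, C = (R : Matrix F9 F9 F) ^ j := by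
  classical
  let A := {M : Matrix F9 F9 F // Commute M (toMat ω gX) ∧ ∀ w z, M w z ^ 4 = M w z}
  let S := {x : F // x ^ 4 = x}
  let g : Fin 4 → S := fun n => ⟨psi ω n.1, by
    have h3 := omega_cube h2 hω
    fin_cases n
    · show psi ω 0 ^ 4 = psi ω 0; rw [psi_zero]; ring
    · show psi ω 1 ^ 4 = psi ω 1; rw [psi_one]; ring
    · show psi ω 2 ^ 4 = psi ω 2; rw [psi_two]; linear_combination ω * h3
    · show psi ω 3 ^ 4 = psi ω 3; rw [psi_three]; linear_combination (2 * ω + 3 * ω ^ 2 + 2 * ω ^ 3) * h2 + ω * h3⟩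
  have hg : Function.Surjective g := fun x => (four_sub_subset h2 x.1 x.2 hω).imp fun n hn => Subtype.ext hn
  haveI : Finite S := Finite.of_surjective g hg
  let col : A → (F9 → S) := fun M w => ⟨M.1 w 0, M.2.2 w 0⟩
  have hcol : Function.Injective col := fun M M' h => by
    refine Subtype.ext (sub_eq_zero.mp (eq_zero_of_commute h2 hω (M.2.1.sub_left M'.2.1) fun w => ?_))
    rw [Matrix.sub_apply, sub_eq_zero]
    exact congrArg Subtype.val (congrFun h w)
  haveI : Finite A := Finite.of_injective col hcol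
  have hA : Nat.card A ≤ N + 1 := by
    refine (Nat.card_le_card_of_injective col hcol).trans ?_
    rw [Nat.card_fun, hN, show Nat.card F9 = 9 by rw [Nat.card_prod, Nat.card_zmod]]
    exact Nat.pow_le_pow_left ((Nat.card_le_card_of_surjective g hg).trans (Nat.card_fin 4).le) 9
  have hpow4 : ∀ i, ∀ w z, ((R : Matrix F9 F9 F) ^ i) w z ^ 4 = ((R : Matrix F9 F9 F) ^ i) w z := by
    intro i
    induction i with
    | zero =>
      intro w z
      rw [pow_zero, Matrix.one_apply]
      split <;> ring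
    | succ i ih => intro w z; rw [pow_succ (R : Matrix F9 F9 F)]; exact mul_four h2 hω ih hR4 w z
  let f : Option (Fin N) → A := fun o => o.elim ⟨0, Commute.zero_left _, fun w z => by rw [Matrix.zero_apply]; ring⟩
    fun i => ⟨(R : Matrix F9 F9 F) ^ i.1, hRc.pow_left _, hpow4 _⟩
  have hne : ∀ i : ℕ, (R : Matrix F9 F9 F) ^ i ≠ 0 := fun i h => by
    have h1 := (R ^ i).inv_mul
    rw [Units.val_pow_eq_pow_val, h, Matrix.mul_zero] at h1
    exact one_ne_zero (congrFun (congrFun h1.symm 0) 0)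
  have hf : Function.Injective f := by
    rintro (_ | i) (_ | k) h
    · rfl
    · exact absurd (congrArg Subtype.val h).symm (hne k.1)
    · exact absurd (congrArg Subtype.val h) (hne i.1)
    · have h' : R ^ i.1 = R ^ k.1 := Units.ext (by
        rw [Units.val_pow_eq_pow_val, Units.val_pow_eq_pow_val]; exact congrArg Subtype.val h)
      exact congrArg some (Fin.ext (pow_injOn_Iio_orderOf (x := R) (by rw [hR]; exact i.2) (by rw [hR]; exact k.2) h'))
  have hbij := hf.bijective_of_nat_card_le (by rw [Finite.card_option, Nat.card_fin]; exact hA)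
  obtain ⟨o, ho⟩ := hbij.2 ⟨C, hC, hC4⟩
  cases o with
  | none => exact absurd (congrArg Subtype.val ho).symm hC0
  | some i => exact ⟨i.1, (congrArg Subtype.val ho).symm⟩

theorem centralizer_genX {c : Spor.threeJ3 F ω} (hc : Commute (proj c) (proj (genX h2 hω))) :
    proj c ∈ Subgroup.zpowers (proj (genX h2 hω)) := by
  have hcx := commute_lift h2 hω hc
  have hf := auField_ok
  simp only [auField, Bool.and_eq_true, Bool.or_eq_true, Bool.not_eq_true'] at hf
  obtain ⟨⟨⟨⟨⟨⟨⟨⟨⟨f1, f2⟩, f3⟩, f4⟩, f5⟩, f6⟩, f7⟩, f8⟩, f9⟩, f10⟩ := hf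
  have hRR : toMat ω auR * toMat ω auRi = 1 := by
    rw [← toMat_mulN h2 hω, Nat.eq_of_beq_eq_true f2, toMat_oneN]
  let R : GL F9 F := ⟨toMat ω auR, toMat ω auRi, hRR, mul_eq_one_comm.mp hRR⟩
  have hRc : Commute (R : Matrix F9 F9 F) (toMat ω gX) := by
    show toMat ω auR * _ = _ * toMat ω auR
    rw [← toMat_mulN h2 hω, Nat.eq_of_beq_eq_true f1, toMat_mulN h2 hω]
  have hp : ∀ n, n < 524288 → ((R ^ n : GL F9 F) : Matrix F9 F9 F) = toMat ω (powQ auR n) := fun n hn => by
    rw [toMat_powQ h2 hω _ hn, Units.val_pow_eq_pow_val]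
  have hne : ∀ n, n < 524288 → Nat.beq (powQ auR n) oneN = false → R ^ n ≠ 1 := fun n hn hb e => by
    refine Nat.ne_of_beq_eq_false hb (toMat_inj h2 hω ?_ (by decide +kernel) ?_)
    · exact lt_of_eq_of_lt rfl (powQ_lt n)
    · rw [← hp n hn, e, toMat_oneN]; rfl
  have hord : orderOf R = 262143 := by
    refine orderOf_eq_of_pow_and_pow_div_prime (by norm_num) (Units.ext ?_) fun p hpp hpd => ?_
    · rw [hp _ (by norm_num), Nat.eq_of_beq_eq_true f3, toMat_oneN]; rfl
    · have hq : ∀ q : ℕ, q.Prime → p ∣ q → p = q := fun q hq h => (Nat.prime_dvd_prime_iff_eq hpp hq).mp h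
      rcases (Nat.Prime.dvd_mul hpp).mp (show p ∣ 3 ^ 3 * 7 * 19 * 73 by norm_num; exact hpd) with h | h
      · rcases (Nat.Prime.dvd_mul hpp).mp h with h | h
        · rcases (Nat.Prime.dvd_mul hpp).mp h with h | h
          · obtain rfl := hq 3 Nat.prime_three (hpp.dvd_of_dvd_pow h)
            exact hne _ (by norm_num) f4
          · obtain rfl := hq 7 (by norm_num) h
            exact hne _ (by norm_num) f5
        · obtain rfl := hq 19 (by norm_num) h
          exact hne _ (by norm_num) f6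
      · obtain rfl := hq 73 (by norm_num) h
        exact hne _ (by norm_num) f7
  obtain ⟨i, hi, k, hk, he⟩ := (mem_iff h2 hω _).mp c.2
  have hcX : Commute ((c : GL F9 F) : Matrix F9 F9 F) (toMat ω gX) := by
    have := congrArg (fun g : Spor.threeJ3 F ω => ((g : GL F9 F) : Matrix F9 F9 F)) hcx.eq
    rw [← genX_val h2 hω]
    exact this
  obtain ⟨j, hj⟩ := commutant_cyclic h2 hω (by norm_num) R hord hRc (toMat_four h2 hω auR) _ hcX
    (by rw [he]; exact mul_four h2 hω (toMat_four h2 hω _) (toMat_four h2 hω _))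
    (fun h0 => by
      have h1 := (c : GL F9 F).inv_mul
      rw [h0, Matrix.mul_zero] at h1
      exact one_ne_zero (congrFun (congrFun h1.symm 0) 0))
  have hcR : (c : GL F9 F) = R ^ j := Units.ext (by rw [Units.val_pow_eq_pow_val]; exact hj)
  have h513 : (c : GL F9 F) ^ 513 = 1 := congrArg Subtype.val
    (centralizer_pow h2 hω c (congrArg Subtype.val hcx.eq))
  obtain ⟨m, rfl⟩ : 511 ∣ j := by
    rw [hcR, ← pow_mul] at h513
    have := orderOf_dvd_of_pow_eq_one h513
    rw [hord, show (262143 : ℕ) = 511 * 513 by norm_num] at this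
    exact Nat.dvd_of_mul_dvd_mul_right (by norm_num) this
  obtain ⟨m', rfl⟩ : 9 ∣ m := by
    by_contra h9
    have hg : Nat.gcd m 513 ∣ 57 := by
      have key : ∀ g < 514, g ∣ 513 → ¬ 9 ∣ g → g ∣ 57 := by decide +kernel
      have hd := Nat.gcd_dvd_right m 513
      exact key _ (Nat.lt_succ_of_le (Nat.le_of_dvd (by norm_num) hd)) hd fun h =>
        h9 (h.trans (Nat.gcd_dvd_left m 513))
    have hin : R ^ (511 * 57) ∈ Spor.threeJ3 F ω := by
      obtain ⟨q, hq⟩ := hg
      have h1 : (R ^ 511) ^ (Nat.gcd m 513) ∈ Spor.threeJ3 F ω := by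
        rw [← zpow_natCast, Nat.gcd_eq_gcd_ab, zpow_add, zpow_mul, zpow_mul, zpow_natCast, zpow_natCast, ← pow_mul R 511 513,
          show R ^ (511 * 513) = 1 by rw [← hord.trans (show (262143 : ℕ) = 511 * 513 by norm_num)]; exact pow_orderOf_eq_one R,
          one_zpow, mul_one, ← pow_mul, ← hcR]
        exact zpow_mem c.2 _
      rw [pow_mul R 511 57, hq, pow_mul]
      exact pow_mem h1 _
    obtain ⟨i', hi', k', hk', he'⟩ := (mem_iff h2 hω _).mp hin
    obtain ⟨d, hd, hcol⟩ := product_col h2 hω (i := i') hk'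
    have hout := allFrom_spec auOutside_ok i' (Nat.zero_le _) (by omega)
    simp only [auOutOK, force_eq, Bool.and_eq_true, Bool.not_eq_true'] at hout
    rw [← Nat.eq_of_beq_eq_true f10] at hout
    obtain ⟨n, hn⟩ := four_sub_subset h2 d (by
      obtain ⟨q, hq, hk0⟩ : ∃ q : F, q = toMat ω (hs k') 0 0 ∧ d = q := by
        refine ⟨_, rfl, ?_⟩
        obtain ⟨w, hw⟩ : ∃ w : F9, toMat ω (trans i') w 0 ≠ 0 := by
          by_contra hall
          push Not at hall
          obtain ⟨u, -, hu⟩ := inD_trans h2 hω i' hi'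
          have h1 := congrFun (congrFun u.inv_mul 0) 0
          rw [hu, Matrix.mul_apply, Matrix.one_apply_eq] at h1
          simp [hall] at h1
        refine mul_right_cancel₀ hw ?_
        rw [← hcol w, Matrix.mul_apply, Finset.sum_eq_single (0 : F9)]
        · ring
        · intro b _ hb
          obtain ⟨d', -, hd'⟩ := hs_col h2 hω hk'
          rw [hd', if_neg hb, mul_zero]
        · intro h; exact absurd (Finset.mem_univ _) h
      rw [hk0, hq]; exact toMat_four h2 hω _ _ _) hω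
    have hn0 : n.1 ≠ 0 := fun h => hd (by rw [← hn, h, psi_zero])
    have hw : colC (powQ auR (511 * 57)) = colC (smulN n.1 (trans i')) := colC_eq_of_ent fun r hr => by
      obtain ⟨w, rfl⟩ := ix_surj hr
      refine psi_inj h2 hω (ent_lt _ _ _) (ent_lt _ _ _) ?_
      rw [psi_ent, psi_ent]
      show toMat ω (powQ auR (511 * 57)) w 0 = toMat ω (smulN n.1 (trans i')) w 0
      rw [← hp _ (by norm_num), he', hcol, toMat_smulN h2 hω _ _ (by omega), hn]
      rfl
    rw [show (511 * 57 : ℕ) = 29127 by norm_num] at hw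
    have := n.2
    interval_cases h : n.1
    · exact hn0 rfl
    · exact Nat.ne_of_beq_eq_false hout.1.1 hw
    · exact Nat.ne_of_beq_eq_false hout.1.2 hw
    · exact Nat.ne_of_beq_eq_false hout.2 hw
  have hcode : auNineC = 1 ∨ auNineC = 2 ∨ auNineC = 3 := by
    rcases f8 with (h | h) | h
    · exact Or.inl (Nat.eq_of_beq_eq_true h)
    · exact Or.inr (Or.inl (Nat.eq_of_beq_eq_true h))
    · exact Or.inr (Or.inr (Nat.eq_of_beq_eq_true h))
  have hR9 : ((R ^ 4599 : GL F9 F) : Matrix F9 F9 F) = psi ω auNineC • (toMat ω gX ^ auNineE) := by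
    rw [hp _ (by norm_num), Nat.eq_of_beq_eq_true f9, toMat_smulN h2 hω _ _ hcode, toMat_powN h2 hω]
  have hmem : R ^ 4599 ∈ Spor.threeJ3 F ω := by
    have : R ^ 4599 = (scalarUnit hω) ^ (auNineC - 1) * ((genX h2 hω ^ auNineE : Spor.threeJ3 F ω) : GL F9 F) :=
      Units.ext (by
        rw [hR9, psi_pow h2 hω hcode, Units.val_mul, scalarUnit_pow h2 hω, SubmonoidClass.coe_pow,
          Units.val_pow_eq_pow_val, genX_val h2 hω, Matrix.smul_mul, Matrix.one_mul])
    rw [this]
    exact mul_mem (pow_mem (scalar_mem_threeJ3 h2 hω) _) (genX h2 hω ^ auNineE).2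
  let r : Spor.threeJ3 F ω := ⟨R ^ 4599, hmem⟩
  have hcr : c = r ^ m' := Subtype.ext (by
    rw [hcR, SubmonoidClass.coe_pow]
    show R ^ (511 * (9 * m')) = (R ^ 4599) ^ m'
    rw [← pow_mul, show 511 * (9 * m') = 4599 * m' by omega])
  have hr : proj r = proj (genX h2 hω ^ auNineE) := by
    refine proj_eq_of_eqScal h2 hω (A := smulN auNineC (powN gX auNineE)) (B := powN gX auNineE) ?_ ?_ ?_
    · simp only [eqScal, force_eq, Bool.or_eq_true]
      rcases hcode with h | h | h <;> rw [h]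
      · exact Or.inl (Or.inl (Nat.beq_refl _))
      · exact Or.inl (Or.inr (Nat.beq_refl _))
      · exact Or.inr (Nat.beq_refl _)
    · rw [toMat_smulN h2 hω _ _ hcode, toMat_powN h2 hω]; exact hR9
    · rw [toMat_powN h2 hω, SubmonoidClass.coe_pow, Units.val_pow_eq_pow_val, genX_val h2 hω]
  rw [hcr, map_pow, hr, map_pow, ← pow_mul, ← zpow_natCast]
  exact Subgroup.zpow_mem _ (Subgroup.mem_zpowers _) _
where
  powQ_lt (n : ℕ) : powQ auR n < 2 ^ 162 := by
    have : ∀ f A n acc, acc < 2 ^ 162 → powBits f A n acc < 2 ^ 162 := by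
      intro f
      induction f with
      | zero => intro A n acc h; exact h
      | succ f ih =>
        intro A n acc h
        show force (bif Nat.beq (Nat.land n 1) 1 then mulN acc A else acc) (fun acc' =>
          force (mulN A A) fun A' => force (Nat.shiftRight n 1) fun n' => powBits f A' n' acc') < 2 ^ 162
        simp only [force_eq]
        refine ih _ _ _ ?_
        cases Nat.beq (Nat.land n 1) 1
        · exact h
        · exact mulN_lt _ _
    exact this _ _ _ _ (by decide +kernel)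

end Cfsg.Agent.JankoThree
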