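/-
The outer automorphism of `J₃` induced by the field automorphism.
Main results (namespace `Cfsg.Agent.JankoThree`): `exists_inverting_aut`, `no_conj_inverts`.
-/
import Cfsg.Agent.Lib.JankoThree.Commutant

set_option autoImplicit false

namespace Cfsg.Agent.JankoThree

open Cfsg.Agent.CosetEnum
open Cfsg.Spor (F9)
open scoped MatrixGroups

variable {F : Type*} [Field F] {ω : F} (h2 : (2 : F) = 0) (hω : ω ^ 2 + ω + 1 = 0)
include h2 hω

theorem toMat_frobN (A : ℕ) (w z : F9) : toMat ω (frobN A) w z = toMat ω A w z ^ 2 := by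
  have hlt : 9 * ix w + ix z < 81 := by have := ix_lt w; have := ix_lt z; omega
  have hm : ∀ X m, (X &&& planeMask).testBit m = (X.testBit m && decide (m < 81)) := fun X m => by
    rw [Nat.testBit_land, show planeMask = 2 ^ 81 - 1 from rfl, Nat.testBit_two_pow_sub_one]
  show entF ω (frobN A) (ix w) (ix z) = entF ω A (ix w) (ix z) ^ 2
  simp only [entF, frobN, force_eq, show ∀ x y, Nat.xor x y = x ^^^ y from fun _ _ => rfl,
    show ∀ x y, Nat.land x y = x &&& y from fun _ _ => rfl, show ∀ x y, Nat.shiftRight x y = x >>> y from fun _ _ => rfl,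
    show ∀ x y, Nat.shiftLeft x y = x <<< y from fun _ _ => rfl, show ∀ x y, Nat.lor x y = x ||| y from fun _ _ => rfl]
  simp only [Nat.testBit_lor, Nat.testBit_shiftLeft, Nat.testBit_xor, hm, Nat.testBit_shiftRight,
    decide_eq_false (show ¬ 9 * ix w + ix z ≥ 81 by omega), decide_eq_true (show 81 + 9 * ix w + ix z ≥ 81 by omega),
    show 81 + 9 * ix w + ix z - 81 = 9 * ix w + ix z by omega,
    decide_eq_false (show ¬ 81 + 9 * ix w + ix z < 81 by omega), decide_eq_true hlt, Bool.false_and, Bool.and_false,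
    Bool.or_false, Bool.false_or, Bool.and_true, Bool.true_and, Bool.xor_false, bitF_xor h2, ← Nat.add_assoc]
  have hb : ∀ b : Bool, bitF F b ^ 2 = bitF F b := fun b => by cases b <;> simp [bitF]
  rw [add_sq, hb, mul_pow, hb]
  linear_combination (-(bitF F (A.testBit (81 + 9 * ix w + ix z))) * hω)
    + ((1 + ω) * bitF F (A.testBit (81 + 9 * ix w + ix z))
      - bitF F (A.testBit (9 * ix w + ix z)) * bitF F (A.testBit (81 + 9 * ix w + ix z)) * ω) * h2

theorem trace_codes (A : ℕ) :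
    Matrix.trace (toMat ω A) = ∑ i ∈ Finset.range 9, psi ω (ent A i i) := by
  rw [Matrix.trace]
  refine Finset.sum_bij (fun v _ => ix v) (fun v _ => Finset.mem_range.mpr (ix_lt v))
    (fun v _ v' _ e => ix_inj v v' e)
    (fun j hj => by obtain ⟨v, hv⟩ := ix_surj (Finset.mem_range.mp hj); exact ⟨v, Finset.mem_univ _, hv⟩)
    (fun v _ => ?_)
  rw [psi_ent]; rfl

theorem sum_psi {n : ℕ} (f : ℕ → ℕ) (hf : ∀ i, f i < 4) :
    ∑ i ∈ Finset.range n, psi ω (f i) = psi ω ((List.range n).foldl (fun acc i => acc ^^^ f i) 0) := by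
  induction n with
  | zero => simp [psi_zero]
  | succ n ih =>
    rw [Finset.sum_range_succ, ih, List.range_succ, List.foldl_append, List.foldl_cons, List.foldl_nil]
    simp only [psi, Nat.testBit_xor, bitF_xor h2]
    ring

theorem trace_ne : Matrix.trace (toMat ω gX) ≠ Matrix.trace (toMat ω gXi) := by
  rw [trace_codes h2 hω, trace_codes h2 hω, sum_psi h2 hω (fun i => ent gX i i) fun i => ent_lt _ _ _,
    sum_psi h2 hω (fun i => ent gXi i i) fun i => ent_lt _ _ _]
  intro h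
  have key : ((List.range 9).foldl (fun acc i => acc ^^^ ent gX i i) 0) ≠
      ((List.range 9).foldl (fun acc i => acc ^^^ ent gXi i i) 0) ∧
      ((List.range 9).foldl (fun acc i => acc ^^^ ent gX i i) 0) < 4 ∧
      ((List.range 9).foldl (fun acc i => acc ^^^ ent gXi i i) 0) < 4 := by decide +kernel
  exact key.1 (psi_inj h2 hω key.2.1 key.2.2 h)

theorem genX_inv_val : (((genX h2 hω)⁻¹ : Spor.threeJ3 F ω) : GL F9 F).val = toMat ω gXi := by
  show (((genX h2 hω : GL F9 F)⁻¹ : GL F9 F) : Matrix F9 F9 F) = _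
  obtain ⟨-, -, -, -, -, -, -, -, -, -, -, -, -, -, -, -, -, -, hx, -⟩ := base_facts
  have h1 : toMat ω gXi * ((genX h2 hω : GL F9 F) : Matrix F9 F9 F) = 1 := by
    rw [genX_val h2 hω, ← toMat_mulN h2 hω, hx, toMat_oneN]
  calc (((genX h2 hω : GL F9 F)⁻¹ : GL F9 F) : Matrix F9 F9 F)
      = (toMat ω gXi * ((genX h2 hω : GL F9 F) : Matrix F9 F9 F)) * _ := by rw [h1, Matrix.one_mul]
    _ = toMat ω gXi := by rw [Matrix.mul_assoc, Units.mul_inv, Matrix.mul_one]

theorem no_conj_inverts (c : Spor.J3 F ω) :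
    c * proj (genX h2 hω) * c⁻¹ ≠ (proj (genX h2 hω))⁻¹ := by
  intro h
  obtain ⟨c, rfl⟩ := QuotientGroup.mk'_surjective _ c
  set x := genX h2 hω
  obtain ⟨z, hz, e⟩ := (QuotientGroup.mk'_eq_mk' _).mp
    (show proj x⁻¹ = proj (c * x * c⁻¹) by rw [map_inv, map_mul, map_mul, map_inv]; exact h.symm)
  have h19 : z ^ 19 = 1 := by
    have h1 : (x⁻¹ * z) ^ 19 = 1 := by rw [e, conj_pow, genX_pow h2 hω, mul_one, mul_inv_cancel]
    rwa [Commute.mul_pow (Subgroup.mem_center_iff.mp hz x⁻¹), inv_pow, genX_pow h2 hω, inv_one, one_mul] at h1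
  have h3 : z ^ 3 = 1 := by
    have := pow_card_eq_one' (G := Subgroup.center (Spor.threeJ3 F ω)) (x := ⟨z, hz⟩)
    rw [card_center h2 hω] at this
    exact congrArg Subtype.val this
  have hz1 : z = 1 := by
    rw [← pow_one z, show (1 : ℕ) = Nat.gcd 19 3 from rfl]
    exact pow_gcd_eq_one.mpr ⟨h19, h3⟩
  rw [hz1, mul_one] at e
  have ht := congrArg (fun g : Spor.threeJ3 F ω => Matrix.trace ((g : GL F9 F) : Matrix F9 F9 F)) e
  change Matrix.trace (((x⁻¹ : Spor.threeJ3 F ω) : GL F9 F) : Matrix F9 F9 F) = _ at ht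
  rw [genX_inv_val h2 hω] at ht
  refine trace_ne h2 hω (ht.trans ?_).symm
  show Matrix.trace (((c : GL F9 F) : Matrix F9 F9 F) * ((x : GL F9 F) : Matrix F9 F9 F) *
    (((c : GL F9 F)⁻¹ : GL F9 F) : Matrix F9 F9 F)) = _
  rw [Matrix.trace_mul_comm, ← Matrix.mul_assoc, Units.inv_mul, Matrix.one_mul, genX_val h2 hω]

theorem exists_inverting_aut :
    ∃ σ : MulAut (Spor.J3 F ω), σ (proj (genX h2 hω)) = (proj (genX h2 hω))⁻¹ := by
  haveI : Finite (Spor.threeJ3 F ω) := Nat.finite_of_card_ne_zero (by rw [card_threeJ3 h2 hω]; norm_num)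
  haveI : CharP F 2 := (CharP.charP_iff_prime_eq_zero Nat.prime_two).mpr (by exact_mod_cast h2)
  haveI : ExpChar F 2 := ExpChar.prime Nat.prime_two
  have hb := auBase_ok
  simp only [auBase, Bool.and_eq_true, Nat.blt_eq] at hb
  obtain ⟨⟨⟨⟨⟨⟨⟨⟨⟨⟨⟨⟨⟨⟨⟨⟨⟨⟨⟨⟨⟨-, -⟩, hX⟩, hY⟩, -⟩, -⟩, hC⟩, hCi⟩, hP⟩, hsx⟩, -⟩, -⟩, -⟩, -⟩, -⟩, -⟩, -⟩, -⟩, -⟩, -⟩, -⟩, -⟩ := hb
  have mk : ∀ A B, Nat.beq (mulN A B) oneN = true → toMat ω A * toMat ω B = 1 := fun A B h => by
    rw [← toMat_mulN h2 hω, Nat.eq_of_beq_eq_true h, toMat_oneN]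
  let C : GL F9 F := ⟨toMat ω auC, toMat ω auCi, mk _ _ hC, mk _ _ hCi⟩
  let P : GL F9 F := ⟨toMat ω auP, toMat ω auP, mk _ _ hP, mk _ _ hP⟩
  let f : GL F9 F →* GL F9 F :=
    (MulAut.conj (C * P)).toMonoidHom.comp (Units.map ((frobenius F 2).mapMatrix : Matrix F9 F9 F →+* _).toMonoidHom)
  have hfrob : ∀ A, (toMat ω A).map (frobenius F 2) = toMat ω (frobN A) := fun A => by
    ext w z
    rw [Matrix.map_apply, frobenius_def, toMat_frobN h2 hω]
  have hfv : ∀ (g : GL F9 F) A, ((g : GL F9 F) : Matrix F9 F9 F) = toMat ω A →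
      ((f g : GL F9 F) : Matrix F9 F9 F) = toMat ω (sigN A) := by
    intro g A hg
    show toMat ω auC * toMat ω auP * ((g : GL F9 F) : Matrix F9 F9 F).map (frobenius F 2) *
      (toMat ω auP * toMat ω auCi) = _
    rw [hg, hfrob, sigN, toMat_mulN h2 hω, toMat_mulN h2 hω, toMat_mulN h2 hω, toMat_mulN h2 hω]
    simp only [Matrix.mul_assoc]
  have hpair : ∀ n e, auPairOK n e = true → InD h2 hω n := fun n e h => by
    simp only [auPairOK, Bool.and_eq_true, Nat.blt_eq] at h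
    rw [Nat.eq_of_beq_eq_true h.2]
    exact InD.mul h2 hω (inD_trans h2 hω _ h.1.1) (inD_hs h2 hω _ h.1.2)
  have hmem : ∀ g ∈ Spor.threeJ3 F ω, f g ∈ Spor.threeJ3 F ω := by
    have hle : genGroup h2 hω ≤ (genGroup h2 hω).comap f := by
      rw [genGroup, Subgroup.closure_le]
      rintro g (rfl | rfl)
      · obtain ⟨u, hu, huv⟩ := hpair _ _ hX
        have : f (unitOf h2 hω 0) = u := Units.ext (by rw [hfv _ gX (unitOf_val h2 hω 0), huv])
        rw [SetLike.mem_coe, Subgroup.mem_comap, this]; exact hu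
      · obtain ⟨u, hu, huv⟩ := hpair _ _ hY
        have : f (unitOf h2 hω 1) = u := Units.ext (by rw [hfv _ gY (unitOf_val h2 hω 1), huv])
        rw [SetLike.mem_coe, Subgroup.mem_comap, this]; exact hu
    intro g hg
    rw [threeJ3_eq h2 hω] at hg ⊢
    exact hle hg
  let e : Spor.threeJ3 F ω →* Spor.threeJ3 F ω :=
    (f.comp (Spor.threeJ3 F ω).subtype).codRestrict _ fun g => hmem g g.2
  have hinj : Function.Injective e := by
    intro a b h
    have h' : f (a : GL F9 F) = f (b : GL F9 F) := congrArg Subtype.val h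
    have h'' := (MulAut.conj (C * P)).injective h'
    exact Subtype.ext (Units.ext (Matrix.map_injective (frobenius F 2).injective (congrArg Units.val h'')))
  let E : Spor.threeJ3 F ω ≃* Spor.threeJ3 F ω :=
    MulEquiv.ofBijective e ⟨hinj, Finite.surjective_of_injective hinj⟩
  refine ⟨QuotientGroup.congr _ _ E (Subgroup.characteristic_iff_map_eq.mp inferInstance E), ?_⟩
  show proj (e (genX h2 hω)) = _
  rw [← map_inv]
  refine congrArg proj (val_inj h2 hω ?_)
  rw [genX_inv_val h2 hω, ← Nat.eq_of_beq_eq_true hsx]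
  exact hfv _ gX (genX_val h2 hω)

end Cfsg.Agent.JankoThree
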