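/-
The outer automorphism group of `J₃` has order two.
Method: an automorphism may be moved to fix an element `x` of order 19 up to inversion and an element `b` of order 9
normalising `⟨x⟩`; the image of the third generator centralises `b ^ 3`, and two relations leave one candidate.
Main results (namespace `Cfsg.Agent.JankoThree`): `fixing_eq_one`, `natCard_out_J3`.
-/
import Cfsg.Agent.Lib.JankoThree.FieldAut
import Cfsg.Prelude.Def_KGroupFacts

set_option autoImplicit false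

namespace Cfsg.Agent.JankoThree

open Cfsg.Agent.CosetEnum
open Cfsg.Spor (F9)
open scoped MatrixGroups Pointwise

variable {F : Type*} [Field F] {ω : F} (h2 : (2 : F) = 0) (hω : ω ^ 2 + ω + 1 = 0)
include h2 hω

theorem au_facts :
    (∃ b : Spor.threeJ3 F ω, ((b : GL F9 F) : Matrix F9 F9 F) = toMat ω auB) ∧
    (∃ s : Spor.threeJ3 F ω, ((s : GL F9 F) : Matrix F9 F9 F) = toMat ω auS) ∧
    mulN auB auBi = oneN ∧ mulN auS auSi = oneN ∧ mulN auB gX = mulN (powN gX 4) auB ∧ eqScal auWord gY = true ∧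
    auTI < 23256 ∧ mulN (trans auTI) auTinv = oneN ∧
    mulN (powN auB 3) (trans auTI) = mulN (trans auTI) (hs auH) ∧
    auH < 6480 ∧ auH2 < 6480 ∧ auH3 < 6480 ∧ hs auH2 = smulN 2 (hs auH) ∧ hs auH3 = smulN 3 (hs auH) ∧
    eqScal (powN (mulN gX auS) 5) oneN = true ∧ eqScal (powN (mulN auB auS) 3) oneN = true := by
  have hb := auBase_ok
  simp only [auBase, Bool.and_eq_true, Nat.blt_eq] at hb
  obtain ⟨⟨⟨⟨⟨⟨⟨⟨⟨⟨⟨⟨⟨⟨⟨⟨⟨⟨⟨⟨⟨a1, a2⟩, -⟩, -⟩, a5⟩, a6⟩, -⟩, -⟩, -⟩, -⟩, a11⟩, a12⟩, a13⟩, a14⟩, a15⟩, a16⟩, a17⟩, a18⟩, a19⟩, a20⟩, a21⟩, a22⟩ := hb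
  have hpair : ∀ n e, auPairOK n e = true → InD h2 hω n := fun n e h => by
    simp only [auPairOK, Bool.and_eq_true, Nat.blt_eq] at h
    rw [Nat.eq_of_beq_eq_true h.2]
    exact InD.mul h2 hω (inD_trans h2 hω _ h.1.1) (inD_hs h2 hω _ h.1.2)
  exact ⟨lift_inD h2 hω (hpair _ _ a1), lift_inD h2 hω (hpair _ _ a2), Nat.eq_of_beq_eq_true a5,
    Nat.eq_of_beq_eq_true a6, Nat.eq_of_beq_eq_true a11, a12, a13, Nat.eq_of_beq_eq_true a14,
    Nat.eq_of_beq_eq_true a15, a16, a17, a18, Nat.eq_of_beq_eq_true a19, Nat.eq_of_beq_eq_true a20, a21, a22⟩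

theorem auMarked_conj : ∀ k, k < 6480 → ∀ m < 6480, auMarked m = true → ∃ m' < 6480, auMarked m' = true ∧
    toMat ω (hs m') * toMat ω (hs k) = toMat ω (hs k) * toMat ω (hs m) := by
  intro k
  induction k using Nat.strong_induction_on with
  | _ k ih =>
    intro hk m hm hmk
    by_cases h3 : k < 3
    · exact ⟨m, hm, hmk, by rw [hs_scalar h2 hω h3, Matrix.mul_smul, Matrix.smul_mul, Matrix.mul_one, Matrix.one_mul]⟩
    obtain ⟨p, hp, e⟩ := (act_spec hk).2.2.2.2.2.2 (not_lt.mp h3)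
    obtain ⟨-, -, -, eA, eB, -⟩ := act_spec (show p < 6480 by omega)
    obtain ⟨n, hn, hnk, hne⟩ := ih p hp (by omega) m hm hmk
    have h := allFrom_spec auMark_ok n (Nat.zero_le n) (by omega)
    simp only [auMarkOK, hnk, cond_true, force_eq, Bool.and_eq_true, Nat.blt_eq] at h
    obtain ⟨⟨⟨hA, hAk⟩, hAe⟩, ⟨hB, hBk⟩, hBe⟩ := h
    rcases e with e | e
    · refine ⟨_, hA, hAk, ?_⟩
      rw [← e, ← eA, toMat_mulN h2 hω, ← Matrix.mul_assoc, ← toMat_mulN h2 hω, Nat.eq_of_beq_eq_true hAe,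
        toMat_mulN h2 hω, Matrix.mul_assoc, hne, Matrix.mul_assoc]
    · refine ⟨_, hB, hBk, ?_⟩
      rw [← e, ← eB, toMat_mulN h2 hω, ← Matrix.mul_assoc, ← toMat_mulN h2 hω, Nat.eq_of_beq_eq_true hBe,
        toMat_mulN h2 hω, Matrix.mul_assoc, hne, Matrix.mul_assoc]

theorem auMarked_base : auMarked auH = true ∧ auMarked auH2 = true ∧ auMarked auH3 = true := by
  decide +kernel

/-- Every element commuting with the cube of `auB` modulo scalars is a candidate. -/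
theorem candidate_complete {g : Spor.threeJ3 F ω} {b3 : Spor.threeJ3 F ω}
    (hb3 : ((b3 : GL F9 F) : Matrix F9 F9 F) = toMat ω (powN auB 3))
    (hg : Commute (proj g) (proj b3)) :
    ∃ q < 9, ∃ r < 81, ((g : GL F9 F) : Matrix F9 F9 F) = toMat ω (auCand q r) := by
  haveI : Finite (Spor.threeJ3 F ω) := Nat.finite_of_card_ne_zero (by rw [card_threeJ3 h2 hω]; norm_num)
  obtain ⟨-, -, -, -, -, -, hTI, hTinv, hb3T, hH, hH2, hH3, eH2, eH3, -, -⟩ := au_facts h2 hω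
  obtain ⟨T, hT⟩ := lift_inD h2 hω (inD_trans h2 hω _ hTI)
  obtain ⟨H3, hH3v⟩ := lift_inD h2 hω (inD_hs h2 hω _ hH)
  have hTi : (((T⁻¹ : Spor.threeJ3 F ω) : GL F9 F) : Matrix F9 F9 F) = toMat ω auTinv := by
    show (((T : GL F9 F)⁻¹ : GL F9 F) : Matrix F9 F9 F) = _
    calc (((T : GL F9 F)⁻¹ : GL F9 F) : Matrix F9 F9 F)
        = _ * (toMat ω (trans auTI) * toMat ω auTinv) := by rw [← toMat_mulN h2 hω, hTinv, toMat_oneN, Matrix.mul_one]
      _ = toMat ω auTinv := by rw [← hT, ← Matrix.mul_assoc, Units.inv_mul, Matrix.one_mul]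
  have hbT : b3 * T = T * H3 := val_inj h2 hω (by
    show ((b3 : GL F9 F) : Matrix F9 F9 F) * ((T : GL F9 F) : Matrix F9 F9 F) =
      ((T : GL F9 F) : Matrix F9 F9 F) * ((H3 : GL F9 F) : Matrix F9 F9 F)
    rw [hb3, hT, hH3v, ← toMat_mulN h2 hω, hb3T, toMat_mulN h2 hω])
  set h := T⁻¹ * g * T with hdef
  obtain ⟨z, hz, e⟩ := (QuotientGroup.mk'_eq_mk' _).mp
    (show proj (h * H3) = proj (H3 * h) by
      have e1 : H3 = T⁻¹ * b3 * T := by rw [mul_assoc, hbT, inv_mul_cancel_left]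
      rw [hdef, e1]
      simp only [map_mul, map_inv]
      have := hg.eq
      generalize proj g = u at this ⊢
      generalize proj b3 = v at this ⊢
      generalize proj T = t
      rw [show t⁻¹ * u * t * (t⁻¹ * v * t) = t⁻¹ * (u * v) * t by group, this]
      group)
  obtain ⟨cz, hcz, hzv⟩ := mem_center_scalar h2 hω hz
  obtain ⟨i, hi, k, hk, hhv⟩ := (mem_iff h2 hω _).mp h.2
  obtain ⟨kz, hkz, hkzm, hkzv⟩ : ∃ kz < 6480, auMarked kz = true ∧
      toMat ω (hs kz) = psi ω cz • toMat ω (hs auH) := by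
    obtain ⟨m1, m2, m3⟩ := auMarked_base h2 hω
    rcases hcz with rfl | rfl | rfl
    · exact ⟨auH, hH, m1, by rw [psi_one, one_smul]⟩
    · exact ⟨auH2, hH2, m2, by rw [eH2, toMat_smulN h2 hω _ _ (Or.inr (Or.inl rfl))]⟩
    · exact ⟨auH3, hH3, m3, by rw [eH3, toMat_smulN h2 hω _ _ (Or.inr (Or.inr rfl))]⟩
  have hst := allFrom_spec auStep_ok i (Nat.zero_le _) (by omega)
  simp only [auStepOK, force_eq, Bool.and_eq_true, Nat.blt_eq] at hst
  obtain ⟨⟨⟨hj, hk'⟩, hse⟩, hfix⟩ := hst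
  have hse := congrArg (toMat ω) (Nat.eq_of_beq_eq_true hse)
  rw [toMat_mulN h2 hω, toMat_mulN h2 hω] at hse
  have em : ((h : GL F9 F) : Matrix F9 F9 F) * toMat ω (hs kz) = toMat ω (hs auH) * ((h : GL F9 F) : Matrix F9 F9 F) := by
    have := congrArg (fun y : Spor.threeJ3 F ω => ((y : GL F9 F) : Matrix F9 F9 F)) e
    change ((h : GL F9 F) : Matrix F9 F9 F) * ((H3 : GL F9 F) : Matrix F9 F9 F) * ((z : GL F9 F) : Matrix F9 F9 F) =
      ((H3 : GL F9 F) : Matrix F9 F9 F) * ((h : GL F9 F) : Matrix F9 F9 F) at this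
    rw [hzv, hH3v, Matrix.mul_smul, Matrix.mul_one, ← Matrix.mul_smul, ← hkzv] at this
    exact this
  rw [hhv, ← Matrix.mul_assoc (toMat ω (hs auH)), hse, Matrix.mul_assoc, Matrix.mul_assoc] at em
  obtain ⟨p1, hp1, e1⟩ := hs_mul h2 hω k hk kz hkz
  obtain ⟨p2, hp2, e2⟩ := hs_mul h2 hω _ hk' k hk
  rw [e1, e2] at em
  obtain ⟨hij, hp12⟩ := product_unique h2 hω hi hj hp1 hp2 em
  obtain ⟨m', hm', hm'k, e3⟩ := auMarked_conj h2 hω k hk kz hkz hkzm
  have hkm : Nat.shiftRight (tget 32 64 auStepT i) 15 = m' := by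
    refine hs_inj h2 hω hk' hm' ?_
    obtain ⟨u, -, hu⟩ := inD_hs h2 hω k hk
    have h4 : toMat ω (hs (Nat.shiftRight (tget 32 64 auStepT i) 15)) * toMat ω (hs k) = toMat ω (hs m') * toMat ω (hs k) := by
      rw [e2, ← hp12, ← e1, e3]
    rw [← hu] at h4
    have := congrArg (fun M => M * ((u⁻¹ : GL F9 F) : Matrix F9 F9 F)) h4
    simpa [Matrix.mul_assoc] using this
  rw [show Nat.beq (Nat.land (tget 32 64 auStepT i) 32767) i = true by rw [← hij]; exact Nat.beq_refl _,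
    hkm, hm'k, Bool.true_and, cond_true] at hfix
  simp only [Bool.and_eq_true, Nat.blt_eq] at hfix
  obtain ⟨hq, ⟨hfi, hhh⟩, hc⟩ := hfix
  set q := tget 8 128 auFixPosT i
  set hh := Nat.land (Nat.shiftRight (tget 32 4 auFixT q) 15) 8191
  have hfi := Nat.eq_of_beq_eq_true hfi
  obtain ⟨U, hU⟩ := lift_inD h2 hω (inD_hs h2 hω hh hhh)
  obtain ⟨Tt, hTt⟩ := lift_inD h2 hω (inD_trans h2 hω i hi)
  obtain ⟨V, hV⟩ := lift_inD h2 hω (inD_hs h2 hω k hk)
  have hhTV : h = Tt * V := val_inj h2 hω (by rw [hhv, ← hTt, ← hV]; rfl)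
  have hcv : toMat ω (auFixC q) = (((Tt * U : Spor.threeJ3 F ω) : GL F9 F) : Matrix F9 F9 F) := by
    rw [auFixC, force_eq, toMat_mulN h2 hω, hfi]
    show _ = ((Tt : GL F9 F) : Matrix F9 F9 F) * ((U : GL F9 F) : Matrix F9 F9 F)
    rw [hTt, hU]
  obtain ⟨m, hm, hmv⟩ : ∃ m < 6480, (((U⁻¹ * V : Spor.threeJ3 F ω) : GL F9 F) : Matrix F9 F9 F) = toMat ω (hs m) := by
    choose hh' hhv' using fun m : Fin 6480 => lift_inD h2 hω (inD_hs h2 hω m.1 m.2)
    let HS : Subgroup (Spor.threeJ3 F ω) := subgroupOfStable (Set.range hh') (Set.finite_range _)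
      ⟨⟨0, by norm_num⟩, val_inj h2 hω (by rw [hhv']; show toMat ω (hs 0) = _; rw [base_facts.2.1, toMat_oneN]; rfl)⟩
      (by
        rintro _ ⟨a, rfl⟩ _ ⟨b, rfl⟩
        obtain ⟨m, hm, e⟩ := hs_mul h2 hω a.1 a.2 b.1 b.2
        exact ⟨⟨m, hm⟩, val_inj h2 hω (by rw [hhv', ← e, ← hhv', ← hhv']; rfl)⟩)
    have hUm : U ∈ HS := ⟨⟨hh, hhh⟩, val_inj h2 hω (by rw [hhv', hU])⟩
    have hVm : V ∈ HS := ⟨⟨k, hk⟩, val_inj h2 hω (by rw [hhv', hV])⟩
    obtain ⟨m, hm⟩ := mul_mem (inv_mem hUm) hVm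
    exact ⟨m.1, m.2, by rw [← hm, hhv']⟩
  have hcom : eqScal (mulN (hs auH) (hs m)) (mulN (hs m) (hs auH)) = true := by
    refine eqScal_of_eq h2 hω (g := H3 * (U⁻¹ * V)) (g' := (U⁻¹ * V) * H3) (mulN_lt _ _) ?_ ?_ ?_
    · show ((H3 : GL F9 F) : Matrix F9 F9 F) * _ = _
      rw [hH3v, hmv, toMat_mulN h2 hω]
    · show _ * ((H3 : GL F9 F) : Matrix F9 F9 F) = _
      rw [hH3v, hmv, toMat_mulN h2 hω]
    · have hc' : Commute (proj H3) (proj (Tt * U)) := by
        show proj H3 * proj (Tt * U) = proj (Tt * U) * proj H3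
        rw [← map_mul, ← map_mul]
        refine proj_eq_of_eqScal h2 hω hc ?_ ?_
        · show ((H3 : GL F9 F) : Matrix F9 F9 F) * (((Tt * U : Spor.threeJ3 F ω) : GL F9 F) : Matrix F9 F9 F) = _
          rw [toMat_mulN h2 hω, hcv, hH3v]
        · show (((Tt * U : Spor.threeJ3 F ω) : GL F9 F) : Matrix F9 F9 F) * ((H3 : GL F9 F) : Matrix F9 F9 F) = _
          rw [toMat_mulN h2 hω, hcv, hH3v]
      have hh' : Commute (proj H3) (proj h) := by
        show proj H3 * proj h = proj h * proj H3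
        rw [← map_mul, ← map_mul]
        exact ((QuotientGroup.mk'_eq_mk' _).mpr ⟨z, hz, e⟩).symm
      have hu : U⁻¹ * V = (Tt * U)⁻¹ * h := by rw [hhTV]; group
      rw [hu]
      refine (map_mul _ _ _).trans (Eq.trans ?_ (map_mul _ _ _).symm)
      rw [map_mul proj ((Tt * U)⁻¹) h, map_inv]
      exact (hc'.inv_right.mul_right hh').eq
  have hcent := allFrom_spec auCent_ok m (Nat.zero_le _) (by omega)
  simp only [auCentOK, force_eq, hcom, cond_true, Bool.and_eq_true, Nat.blt_eq] at hcent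
  refine ⟨q, hq, _, hcent.1, ?_⟩
  rw [auCand, Nat.eq_of_beq_eq_true hcent.2, toMat_mulN h2 hω, toMat_mulN h2 hω, toMat_mulN h2 hω, hcv, ← hmv, ← hT, ← hTi]
  show _ = (((T * ((Tt * U) * (U⁻¹ * V)) * T⁻¹ : Spor.threeJ3 F ω) : GL F9 F) : Matrix F9 F9 F)
  congr 2
  rw [show Tt * U * (U⁻¹ * V) = h by rw [hhTV]; group, hdef]
  group

/-- An automorphism fixing the two generators of the normaliser of a Sylow 19-subgroup is trivial. -/
theorem fixing_eq_one (φ : MulAut (Spor.J3 F ω)) {b : Spor.threeJ3 F ω}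
    (hb : ((b : GL F9 F) : Matrix F9 F9 F) = toMat ω auB)
    (hx : φ (proj (genX h2 hω)) = proj (genX h2 hω)) (hbφ : φ (proj b) = proj b) : φ = 1 := by
  haveI : Finite (Spor.threeJ3 F ω) := Nat.finite_of_card_ne_zero (by rw [card_threeJ3 h2 hω]; norm_num)
  obtain ⟨-, ⟨s, hs⟩, hBi, hSi, -, hW, -, -, -, -, -, -, -, -, hr5, hr3⟩ := au_facts h2 hω
  have hpow : ∀ (g : Spor.threeJ3 F ω) A, ((g : GL F9 F) : Matrix F9 F9 F) = toMat ω A → ∀ n,
      (((g ^ n : Spor.threeJ3 F ω) : GL F9 F) : Matrix F9 F9 F) = toMat ω (powN A n) := fun g A hg n => by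
    rw [SubmonoidClass.coe_pow, Units.val_pow_eq_pow_val, hg, toMat_powN h2 hω]
  have hmulv : ∀ (g g' : Spor.threeJ3 F ω) A B, ((g : GL F9 F) : Matrix F9 F9 F) = toMat ω A →
      ((g' : GL F9 F) : Matrix F9 F9 F) = toMat ω B →
      (((g * g' : Spor.threeJ3 F ω) : GL F9 F) : Matrix F9 F9 F) = toMat ω (mulN A B) := fun g g' A B hg hg' => by
    rw [toMat_mulN h2 hω, ← hg, ← hg']; rfl
  have hone : (((1 : Spor.threeJ3 F ω) : GL F9 F) : Matrix F9 F9 F) = toMat ω oneN := by rw [toMat_oneN]; rfl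
  obtain ⟨g, hg⟩ := QuotientGroup.mk'_surjective (Subgroup.center (Spor.threeJ3 F ω)) (φ (proj s))
  change proj g = φ (proj s) at hg
  have hb3c : Commute (proj s) (proj (b ^ 3)) := by
    show _ * _ = _ * _
    rw [← map_mul, ← map_mul]
    exact proj_eq_of_eqScal h2 hω auS_comm (hmulv _ _ _ _ hs (hpow b auB hb 3)) (hmulv _ _ _ _ (hpow b auB hb 3) hs)
  have hgc : Commute (proj g) (proj (b ^ 3)) := by
    have e : φ (proj (b ^ 3)) = proj (b ^ 3) := by rw [map_pow, map_pow, hbφ]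
    rw [hg, ← e]
    exact hb3c.map φ
  obtain ⟨q, hq, r, hr, hcand⟩ := candidate_complete h2 hω (hpow b auB hb 3) hgc
  have hgs : proj g = proj s := by
    have h := allFrom_spec auCand_ok (81 * q + r) (Nat.zero_le _) (by omega)
    simp only [auCandOK, force_eq] at h
    rw [show (81 * q + r).div 81 = q from (by show (81 * q + r) / 81 = q; omega),
      show (81 * q + r).mod 81 = r from (by show (81 * q + r) % 81 = r; omega)] at h
    have e3 : eqScal (powN (mulN auB (auCand q r)) 3) oneN = true := by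
      refine eqScal_of_eq h2 hω (powN_lt _ _) (hpow _ _ (hmulv _ _ _ _ hb hcand) 3) hone ?_
      rw [map_pow, map_mul, hg, ← hbφ, ← map_mul, ← map_pow, ← map_mul (proj), ← map_pow (proj),
        proj_eq_of_eqScal h2 hω hr3 (hpow _ _ (hmulv _ _ _ _ hb hs) 3) hone, map_one, map_one]
    have e5 : eqScal (powN (mulN gX (auCand q r)) 5) oneN = true := by
      refine eqScal_of_eq h2 hω (powN_lt _ _) (hpow _ _ (hmulv _ _ _ _ (genX_val h2 hω) hcand) 5) hone ?_
      rw [map_pow, map_mul, hg, ← hx, ← map_mul, ← map_pow, ← map_mul (proj), ← map_pow (proj),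
        proj_eq_of_eqScal h2 hω hr5 (hpow _ _ (hmulv _ _ _ _ (genX_val h2 hω) hs) 5) hone, map_one, map_one]
    rw [e3, cond_true, e5, cond_true] at h
    exact proj_eq_of_eqScal h2 hω h hcand hs
  have hsφ : φ (proj s) = proj s := by rw [← hg, hgs]
  -- the second generator is a word in the three
  have hinv : ∀ (g : Spor.threeJ3 F ω) A B, ((g : GL F9 F) : Matrix F9 F9 F) = toMat ω A → mulN A B = oneN →
      (((g⁻¹ : Spor.threeJ3 F ω) : GL F9 F) : Matrix F9 F9 F) = toMat ω B := fun g A B hg h => by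
    show (((g : GL F9 F)⁻¹ : GL F9 F) : Matrix F9 F9 F) = _
    calc (((g : GL F9 F)⁻¹ : GL F9 F) : Matrix F9 F9 F)
        = _ * (toMat ω A * toMat ω B) := by rw [← toMat_mulN h2 hω, h, toMat_oneN, Matrix.mul_one]
      _ = toMat ω B := by rw [← hg, ← Matrix.mul_assoc, Units.inv_mul, Matrix.one_mul]
  let gY' : Spor.threeJ3 F ω :=
    ⟨unitOf h2 hω 1, by rw [threeJ3_eq h2 hω]; exact Subgroup.subset_closure (Set.mem_insert_of_mem _ rfl)⟩
  have hX := genX_val h2 hω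
  have hy : proj gY' =
      proj (b * (s * (s * (genX h2 hω * (genX h2 hω * (s⁻¹ * (b⁻¹ * (genX h2 hω * (b * (s * genX h2 hω)))))))))) := by
    refine (proj_eq_of_eqScal h2 hω hW ?_ (unitOf_val h2 hω 1)).symm
    exact hmulv _ _ _ _ hb (hmulv _ _ _ _ hs (hmulv _ _ _ _ hs (hmulv _ _ _ _ hX (hmulv _ _ _ _ hX
      (hmulv _ _ _ _ (hinv s _ _ hs hSi) (hmulv _ _ _ _ (hinv b _ _ hb hBi)
      (hmulv _ _ _ _ hX (hmulv _ _ _ _ hb (hmulv _ _ _ _ hs hX)))))))))
  have hyφ : φ (proj gY') = proj gY' := by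
    rw [hy]; simp only [map_mul, map_inv, hx, hbφ, hsφ]
  refine MulEquiv.ext fun j => ?_
  obtain ⟨j, rfl⟩ := QuotientGroup.mk'_surjective (Subgroup.center (Spor.threeJ3 F ω)) j
  have hle : genGroup h2 hω ≤ (MonoidHom.eqLocus (φ.toMonoidHom.comp (proj)) (proj)).map
      (Spor.threeJ3 F ω).subtype := by
    rw [genGroup, Subgroup.closure_le]
    rintro u (rfl | rfl)
    · exact ⟨genX h2 hω, hx, rfl⟩
    · exact ⟨gY', hyφ, rfl⟩
  obtain ⟨j', hj', e⟩ := hle (show (j : GL F9 F) ∈ genGroup h2 hω by rw [← threeJ3_eq h2 hω]; exact j.2)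
  have : j' = j := Subtype.ext e
  subst this
  exact hj'
where
  powN_lt (A n : ℕ) : powN A n < 2 ^ 162 := by
    cases n with
    | zero => show oneN < 2 ^ 162; decide +kernel
    | succ n =>
      show force (powN A n) (fun P => mulN A P) < 2 ^ 162
      rw [force_eq]; exact mulN_lt _ _
  auS_comm : eqScal (mulN auS (powN auB 3)) (mulN (powN auB 3) auS) = true := by decide +kernel

theorem inner_of_fixing (φ : MulAut (Spor.J3 F ω)) (hx : φ (proj (genX h2 hω)) = proj (genX h2 hω)) :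
    φ ∈ Inn (Spor.J3 F ω) := by
  haveI : Finite (Spor.threeJ3 F ω) := Nat.finite_of_card_ne_zero (by rw [card_threeJ3 h2 hω]; norm_num)
  obtain ⟨⟨b, hb⟩, -, -, -, hbx, -⟩ := au_facts h2 hω
  set X := proj (genX h2 hω) with hXdef
  set B := proj b with hBdef
  have hrel : B * X = X ^ 4 * B := by
    rw [hBdef, hXdef, ← map_pow, ← map_mul, ← map_mul]
    congr 1
    refine val_inj h2 hω ?_
    show ((b : GL F9 F) : Matrix F9 F9 F) * ((genX h2 hω : GL F9 F) : Matrix F9 F9 F) =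
      ((genX h2 hω : GL F9 F) : Matrix F9 F9 F) ^ 4 * ((b : GL F9 F) : Matrix F9 F9 F)
    rw [hb, genX_val h2 hω, ← toMat_powN h2 hω, ← toMat_mulN h2 hω, hbx, toMat_mulN h2 hω]
  have h19 : X ^ 19 = 1 := by rw [hXdef, ← map_pow, genX_pow h2 hω, map_one]
  have hφrel : φ B * X = X ^ 4 * φ B := by
    have := congrArg φ hrel
    rwa [map_mul, map_mul, map_pow, hx] at this
  have hcomm : Commute (B⁻¹ * φ B) X := by
    show B⁻¹ * φ B * X = X * (B⁻¹ * φ B)
    have e : B⁻¹ * X ^ 4 = X * B⁻¹ := by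
      rw [eq_mul_inv_iff_mul_eq, mul_assoc, ← hrel, inv_mul_cancel_left]
    rw [mul_assoc, hφrel, ← mul_assoc, e, mul_assoc]
  obtain ⟨c, hc⟩ := QuotientGroup.mk'_surjective (Subgroup.center (Spor.threeJ3 F ω)) (B⁻¹ * φ B)
  change proj c = _ at hc
  obtain ⟨i, hi⟩ := Subgroup.mem_zpowers_iff.mp (centralizer_genX h2 hω (c := c) (hc ▸ hcomm))
  rw [hc] at hi
  -- conjugation by a power of `X` moves `B` by any power
  have hBX : ∀ n : ℤ, X ^ n * B * (X ^ n)⁻¹ = B * X ^ (4 * n) := by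
    intro n
    have hconj : B⁻¹ * X * B = X ^ 5 := by
      have e5 : (B * X * B⁻¹) ^ 5 = X := by
        rw [show B * X * B⁻¹ = X ^ 4 by rw [hrel, mul_inv_cancel_right], ← pow_mul,
          show 4 * 5 = 19 + 1 by norm_num, pow_succ, h19, one_mul]
      rw [conj_pow] at e5
      conv_lhs => rw [← e5]
      group
    have hn : B⁻¹ * X ^ n * B = X ^ (5 * n) := by
      have h := conj_zpow (i := n) (a := B⁻¹) (b := X)
      rw [inv_inv] at h
      rw [← h, hconj, ← zpow_natCast X 5, ← zpow_mul]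
      norm_num
    calc X ^ n * B * (X ^ n)⁻¹ = B * (B⁻¹ * X ^ n * B) * (X ^ n)⁻¹ := by group
      _ = B * X ^ (4 * n) := by rw [hn, mul_assoc, ← zpow_neg, ← zpow_add]; congr 2; ring
  have hkey : φ B = X ^ (5 * i) * B * (X ^ (5 * i))⁻¹ := by
    rw [hBX, show 4 * (5 * i) = i + 19 * i by ring, zpow_add, zpow_mul,
      show X ^ (19 : ℤ) = 1 from (zpow_natCast X 19).trans h19, one_zpow, mul_one, hi, mul_inv_cancel_left]
  refine ⟨X ^ (5 * i), ?_⟩
  have h1 : (MulAut.conj (X ^ (5 * i)))⁻¹ * φ = 1 := by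
    refine fixing_eq_one h2 hω _ hb ?_ ?_
    · rw [MulAut.mul_apply, hx, MulAut.conj_inv_apply]
      show (X ^ (5 * i))⁻¹ * X * X ^ (5 * i) = X
      rw [mul_assoc, ← (Commute.zpow_self X (5 * i)).eq, inv_mul_cancel_left]
    · rw [MulAut.mul_apply]
      show (MulAut.conj (X ^ (5 * i)))⁻¹ (φ B) = B
      rw [hkey, MulAut.conj_inv_apply]
      group
  exact (inv_mul_eq_one.mp h1)

theorem natCard_out_J3 : Nat.card (Out (Spor.J3 F ω)) = 2 := by
  haveI : Finite (Spor.threeJ3 F ω) := Nat.finite_of_card_ne_zero (by rw [card_threeJ3 h2 hω]; norm_num)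
  haveI : Fact (Nat.Prime 19) := ⟨by norm_num⟩
  obtain ⟨σ, hσ⟩ := exists_inverting_aut h2 hω
  obtain ⟨⟨b, hb⟩, -, -, -, hbx, -⟩ := au_facts h2 hω
  set X := proj (genX h2 hω) with hXdef
  have h19 : X ^ 19 = 1 := by rw [hXdef, ← map_pow, genX_pow h2 hω, map_one]
  have hX1 : X ≠ 1 := fun e => no_conj_inverts h2 hω 1 (by rw [← hXdef, e]; simp)
  have hord : orderOf X = 19 := orderOf_eq_prime h19 hX1
  have hall : ∀ φ : MulAut (Spor.J3 F ω), φ ∈ Inn _ ∨ σ * φ ∈ Inn _ := by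
    intro φ
    have hf : (Nat.card (Spor.J3 F ω)).factorization 19 = 1 := by
      rw [(simple_J3 h2 hω).2, show (50232960 : ℕ) = 19 * 2643840 from rfl,
        Nat.factorization_mul (by norm_num) (by norm_num), Finsupp.add_apply, Nat.Prime.factorization_self (by norm_num),
        Nat.factorization_eq_zero_of_not_dvd (by norm_num)]
    have hordφ : orderOf (φ X) = 19 := by rw [MulEquiv.orderOf_eq, hord]
    let P : Sylow 19 (Spor.J3 F ω) := Sylow.ofCard (Subgroup.zpowers X) (by rw [Nat.card_zpowers, hord, hf, pow_one])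
    let Q : Sylow 19 (Spor.J3 F ω) := Sylow.ofCard (Subgroup.zpowers (φ X)) (by rw [Nat.card_zpowers, hordφ, hf, pow_one])
    obtain ⟨g, hg⟩ := MulAction.exists_smul_eq (Spor.J3 F ω) Q P
    have hgm : MulAut.conj g (φ X) ∈ Subgroup.zpowers X := by
      have e := congrArg (fun S : Sylow 19 (Spor.J3 F ω) => (S : Subgroup (Spor.J3 F ω))) hg
      change MulAut.conj g • Subgroup.zpowers (φ X) = Subgroup.zpowers X at e
      rw [← e]
      exact Subgroup.smul_mem_pointwise_smul (φ X) (MulAut.conj g) _ (Subgroup.mem_zpowers _)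
    obtain ⟨k, hk19, hk⟩ : ∃ k < 19, X ^ k = MulAut.conj g (φ X) := by
      obtain ⟨z, hz⟩ := Subgroup.mem_zpowers_iff.mp hgm
      refine ⟨(z % 19).toNat, by omega, ?_⟩
      rw [← hz, ← zpow_natCast, Int.toNat_of_nonneg (Int.emod_nonneg _ (by norm_num))]
      conv_rhs => rw [← Int.emod_add_mul_ediv z 19, zpow_add, zpow_mul]
      rw [show X ^ (19 : ℤ) = 1 from (zpow_natCast X 19).trans h19, one_zpow, mul_one]
    have hk0 : k ≠ 0 := fun e => by
      rw [e, pow_zero] at hk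
      rw [(MulEquiv.map_eq_one_iff _).mp hk.symm, orderOf_one] at hordφ
      omega
    obtain ⟨n, hn⟩ : ∃ n : Fin 9, 4 ^ n.1 * k % 19 = 1 ∨ 4 ^ n.1 * k % 19 = 18 := by
      have key : ∀ k < 19, k ≠ 0 → ∃ n : Fin 9, 4 ^ n.1 * k % 19 = 1 ∨ 4 ^ n.1 * k % 19 = 18 := by decide
      exact key k hk19 hk0
    set B := proj b with hBdef
    have hrel : B * X * B⁻¹ = X ^ 4 := by
      rw [mul_inv_eq_iff_eq_mul, hBdef, hXdef, ← map_pow, ← map_mul, ← map_mul]
      congr 1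
      refine val_inj h2 hω ?_
      show ((b : GL F9 F) : Matrix F9 F9 F) * ((genX h2 hω : GL F9 F) : Matrix F9 F9 F) =
        ((genX h2 hω : GL F9 F) : Matrix F9 F9 F) ^ 4 * ((b : GL F9 F) : Matrix F9 F9 F)
      rw [hb, genX_val h2 hω, ← toMat_powN h2 hω, ← toMat_mulN h2 hω, hbx, toMat_mulN h2 hω]
    have hBn : ∀ n : ℕ, B ^ n * X * (B ^ n)⁻¹ = X ^ 4 ^ n := by
      intro n
      induction n with
      | zero => simp
      | succ n ih =>
        rw [pow_succ', show B * B ^ n * X * (B * B ^ n)⁻¹ = B * (B ^ n * X * (B ^ n)⁻¹) * B⁻¹ by group, ih,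
          ← conj_pow, hrel, ← pow_mul, ← pow_succ']
    set ψ : MulAut (Spor.J3 F ω) := MulAut.conj (B ^ n.1 * g) * φ with hψdef
    have hψX : ψ X = X ^ (4 ^ n.1 * k) := by
      rw [hψdef, MulAut.mul_apply, map_mul (MulAut.conj) (B ^ n.1) g, MulAut.mul_apply, ← hk, map_pow,
        MulAut.conj_apply, hBn, ← pow_mul]
    have hin : MulAut.conj (B ^ n.1 * g) ∈ Inn (Spor.J3 F ω) := ⟨_, rfl⟩
    have hφ : φ = (MulAut.conj (B ^ n.1 * g))⁻¹ * ψ := by rw [hψdef, inv_mul_cancel_left]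
    rcases hn with hn | hn
    · left
      have hψI : ψ ∈ Inn (Spor.J3 F ω) := inner_of_fixing h2 hω ψ (by
        rw [← hXdef, hψX, ← pow_mod_orderOf, hord, hn, pow_one])
      rw [hφ]
      exact mul_mem (inv_mem hin) hψI
    · right
      have hψI : σ * ψ ∈ Inn (Spor.J3 F ω) := inner_of_fixing h2 hω _ (by
        rw [← hXdef, MulAut.mul_apply, hψX, ← pow_mod_orderOf, hord, hn, map_pow, hσ, inv_pow]
        exact inv_eq_of_mul_eq_one_right (by rw [← pow_succ, h19]))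
      rw [hφ, ← mul_assoc, show σ * (MulAut.conj (B ^ n.1 * g))⁻¹ * ψ =
        (σ * (MulAut.conj (B ^ n.1 * g))⁻¹ * σ⁻¹) * (σ * ψ) by group]
      exact mul_mem ((innNormal _).conj_mem _ (inv_mem hin) σ) hψI
  have hnot : σ ∉ Inn (Spor.J3 F ω) := by
    rintro ⟨c, hc⟩
    refine no_conj_inverts h2 hω c ?_
    rw [← hσ, ← hc, MulAut.conj_apply]
  let f : Bool → Out (Spor.J3 F ω) := fun t => bif t then (QuotientGroup.mk σ⁻¹) else 1
  have hne : (QuotientGroup.mk σ⁻¹ : Out (Spor.J3 F ω)) ≠ 1 := fun h => hnot (by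
    have := (QuotientGroup.eq_one_iff _).mp h
    simpa using inv_mem this)
  have hbij : Function.Bijective f := by
    refine ⟨?_, fun q => ?_⟩
    · intro s t h
      cases s <;> cases t
      · rfl
      · exact absurd h.symm hne
      · exact absurd h hne
      · rfl
    · obtain ⟨φ, rfl⟩ := QuotientGroup.mk_surjective q
      rcases hall φ with h | h
      · exact ⟨false, ((QuotientGroup.eq_one_iff _).mpr h).symm⟩
      · exact ⟨true, QuotientGroup.eq.mpr (by rw [inv_inv]; exact h)⟩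
  rw [← Nat.card_congr (Equiv.ofBijective f hbij), Nat.card_eq_fintype_card, Fintype.card_bool]

end Cfsg.Agent.JankoThree
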