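/-
The tree of the isotropic lines for `3.J₃`, evaluated by the kernel.
Main results (namespace `Cfsg.Agent.JankoThree`): `isoPar_ok`, `isoOrd_ok`.
-/
import Cfsg.Agent.Lib.JankoThree.Cert

set_option autoImplicit false
set_option maxRecDepth 100000

namespace Cfsg.Agent.JankoThree

theorem isoPar_ok : allFrom isoParOK 1 43604 = true := by decide +kernel

theorem isoOrd_ok : allFrom (fun r => Nat.blt (tget 16 128 isoOrdT r) 43605) 0 43605 = true := by decide +kernel

end Cfsg.Agent.JankoThree
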