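/-
The checks of a subgroup of order `24480` of `3.J₃`, evaluated by the kernel.
Main results (namespace `Cfsg.Agent.JankoThree`): `subBase_ok`, `subAct_ok`, `subSort_ok`, `subRank_ok`, `subCross_ok`.
-/
import Cfsg.Agent.Lib.JankoThree.Cert
import Cfsg.Agent.Lib.JankoThree.DataPoint

set_option autoImplicit false
set_option maxRecDepth 100000

namespace Cfsg.Agent.JankoThree

open Cfsg.Agent.CosetEnum

/-- An element of the subgroup of order 1440. -/
noncomputable def subK (k : ℕ) : ℕ := tget 162 16 subKT k

/-- A power of the element of order 17. -/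
noncomputable def subPw (i : ℕ) : ℕ := tget 162 1 subPowT i

/-- A generator of the subgroup of order 1440. -/
noncomputable def subGen (g : ℕ) : ℕ := bif Nat.beq g 0 then subA else bif Nat.beq g 1 then subB else smulN 2 oneN

/-- A member of `3.J₃`. -/
noncomputable def subFacOK (n e : ℕ) : Bool :=
  Nat.blt (Nat.land e 32767) 23256 && Nat.blt (Nat.shiftRight e 15) 6480 &&
    Nat.beq n (mulN (trans (Nat.land e 32767)) (hs (Nat.shiftRight e 15)))

/-- Basic facts. -/
noncomputable def subBase : Bool :=
  Nat.beq (subK 0) oneN && Nat.beq (subPw 0) oneN && !Nat.beq subP oneN &&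
    Nat.beq (mulN subP (subPw 16)) oneN &&
    subFacOK subP (tget 32 4 subFacT 0) && subFacOK subA (tget 32 4 subFacT 1) &&
    subFacOK subB (tget 32 4 subFacT 2) &&
    allFrom (fun i => Nat.beq (mulN subP (subPw i)) (subPw (Nat.succ i))) 0 16

/-- Closure of the subgroup of order 1440. -/
noncomputable def subActOK (k : ℕ) : Bool :=
  force (subK k) fun x =>
    allFrom (fun g => force (tget 16 128 subActT (Nat.add (Nat.mul 3 k) g)) fun m =>
      Nat.blt m 1440 && Nat.beq (mulN (subGen g) x) (subK m)) 0 3 &&
    (Nat.beq k 0 || force (tget 16 128 subParT k) fun q =>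
      Nat.blt (Nat.div q 3) k && Nat.beq (tget 16 128 subActT q) k)

/-- Distinct elements. -/
noncomputable def subSortOK (r : ℕ) : Bool :=
  Nat.blt (subK (tget 16 128 subPermT r)) (subK (tget 16 128 subPermT (Nat.succ r)))

/-- The rank of an element. -/
noncomputable def subRankOK (k : ℕ) : Bool :=
  force (tget 16 128 subRankT k) fun r => Nat.blt r 1440 && Nat.beq (tget 16 128 subPermT r) k

/-- Products of a generator and a power. -/
noncomputable def subCrossOK (i : ℕ) : Bool :=
  allFrom (fun g => force (tget 16 64 subCrossT (Nat.add (Nat.mul 2 i) g)) fun e =>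
    Nat.blt (Nat.land e 31) 17 && Nat.blt (Nat.shiftRight e 5) 1440 &&
      Nat.beq (mulN (subGen g) (subPw i)) (mulN (subPw (Nat.land e 31)) (subK (Nat.shiftRight e 5)))) 0 2

theorem subBase_ok : subBase = true := by decide +kernel

theorem subAct_ok : allFrom subActOK 0 1440 = true := by decide +kernel

theorem subSort_ok : allFrom subSortOK 0 1439 = true := by decide +kernel

theorem subRank_ok : allFrom subRankOK 0 1440 = true := by decide +kernel

theorem subCross_ok : allFrom subCrossOK 0 17 = true := by decide +kernel

end Cfsg.Agent.JankoThree
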