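/-
The enumeration of the isotropic vectors for `3.J₃`, evaluated by the kernel.
Main results (namespace `Cfsg.Agent.JankoThree`): `walk_ok0`, …, `walk_ok7`.
-/
import Cfsg.Agent.Lib.JankoThree.Cert

set_option autoImplicit false
set_option maxRecDepth 100000

namespace Cfsg.Agent.JankoThree

theorem walk_ok0 : walk 16384 0 0 = 2736 := by decide +kernel

theorem walk_ok1 : walk 16384 16384 2735 = 5464 := by decide +kernel

theorem walk_ok2 : walk 16384 32768 5463 = 8196 := by decide +kernel

theorem walk_ok3 : walk 16384 49152 8195 = 10924 := by decide +kernel

theorem walk_ok4 : walk 16384 65536 10923 = 13658 := by decide +kernel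

theorem walk_ok5 : walk 16384 81920 13657 = 16386 := by decide +kernel

theorem walk_ok6 : walk 16384 98304 16385 = 19118 := by decide +kernel

theorem walk_ok7 : walk 16384 114688 19117 = 21846 := by decide +kernel

end Cfsg.Agent.JankoThree
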