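/-
The enumeration of the isotropic vectors for `3.J₃`, evaluated by the kernel.
Main results (namespace `Cfsg.Agent.JankoThree`): `walk_ok8`, …, `walk_ok15`.
-/
import Cfsg.Agent.Lib.JankoThree.Cert

set_option autoImplicit false
set_option maxRecDepth 100000

namespace Cfsg.Agent.JankoThree

theorem walk_ok8 : walk 16384 131072 21845 = 24582 := by decide +kernel

theorem walk_ok9 : walk 16384 147456 24581 = 27310 := by decide +kernel

theorem walk_ok10 : walk 16384 163840 27309 = 30042 := by decide +kernel

theorem walk_ok11 : walk 16384 180224 30041 = 32770 := by decide +kernel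

theorem walk_ok12 : walk 16384 196608 32769 = 35502 := by decide +kernel

theorem walk_ok13 : walk 16384 212992 35501 = 38230 := by decide +kernel

theorem walk_ok14 : walk 16384 229376 38229 = 40966 := by decide +kernel

theorem walk_ok15 : walk 16384 245760 40965 = 43606 := by decide +kernel

end Cfsg.Agent.JankoThree
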