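/-
Orbits of `3.J₃` on lines of the natural module.
Main results (namespace `Cfsg.Agent.JankoThree`): `ncard_orbit_base`, `isotropic_orbit`.
-/
import Cfsg.Agent.Lib.JankoThree.Group
import Cfsg.Agent.Lib.JankoThree.CertIso
import Cfsg.Agent.Lib.JankoThree.CertWalkA
import Cfsg.Agent.Lib.JankoThree.CertWalkB

set_option autoImplicit false

namespace Cfsg.Agent.JankoThree

open Cfsg.Agent.CosetEnum
open Cfsg.Spor (F9)
open Matrix
open scoped MatrixGroups

theorem oddWeight_succ (v n : ℕ) :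
    (Nat.rec (motive := fun _ => Bool) false
      (fun k ih => bif Nat.beq (Nat.land (Nat.shiftRight (Nat.lor v (Nat.shiftRight v 9)) k) 1) 1 then !ih else ih) (n + 1)) =
    ((v.testBit n || v.testBit (9 + n)) ^^ (Nat.rec (motive := fun _ => Bool) false
      (fun k ih => bif Nat.beq (Nat.land (Nat.shiftRight (Nat.lor v (Nat.shiftRight v 9)) k) 1) 1 then !ih else ih) n)) := by
  simp only [bitTest]
  rw [show Nat.lor v (Nat.shiftRight v 9) = v ||| (v >>> 9) from rfl, Nat.testBit_lor, Nat.testBit_shiftRight]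
  cases (v.testBit n || v.testBit (9 + n)) <;> simp

theorem colOf_bits (v : ℕ) : ∀ i < 9,
    (colOf v).testBit (9 * i) = v.testBit i ∧ (colOf v).testBit (81 + 9 * i) = v.testBit (9 + i) := by
  have hb : ∀ k s m : ℕ, (Nat.shiftLeft (Nat.land (Nat.shiftRight v k) 1) s).testBit m =
      (decide (m = s) && v.testBit k) := by
    intro k s m
    show (((v >>> k) &&& 1) <<< s).testBit m = _
    rw [Nat.testBit_shiftLeft, Nat.testBit_land, Nat.testBit_shiftRight, show (1 : ℕ) = 2 ^ 0 from rfl, Nat.testBit_two_pow]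
    by_cases h : m = s
    · subst h; simp
    · by_cases h' : m ≥ s
      · simp only [ge_iff_le, h', decide_true, Bool.true_and, h, decide_false, Bool.false_and,
          decide_eq_false (show ¬ 0 = m - s by omega), Bool.and_false]
      · simp [h, h']
  suffices h : ∀ n, n ≤ 9 → ∀ i < 9,
      (Nat.rec (motive := fun _ => ℕ) 0 (fun k ih => force ih fun r => Nat.lor r (Nat.lor
        (Nat.shiftLeft (Nat.land (Nat.shiftRight v k) 1) (Nat.mul 9 k))
        (Nat.shiftLeft (Nat.land (Nat.shiftRight v (Nat.add 9 k)) 1) (Nat.add 81 (Nat.mul 9 k))))) n).testBit (9 * i) =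
          (decide (i < n) && v.testBit i) ∧
      (Nat.rec (motive := fun _ => ℕ) 0 (fun k ih => force ih fun r => Nat.lor r (Nat.lor
        (Nat.shiftLeft (Nat.land (Nat.shiftRight v k) 1) (Nat.mul 9 k))
        (Nat.shiftLeft (Nat.land (Nat.shiftRight v (Nat.add 9 k)) 1) (Nat.add 81 (Nat.mul 9 k))))) n).testBit
          (81 + 9 * i) = (decide (i < n) && v.testBit (9 + i)) by
    intro i hi
    have := h 9 le_rfl i hi
    rw [decide_eq_true hi, Bool.true_and, Bool.true_and] at this
    exact this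
  intro n
  induction n with
  | zero => intro _ i _; simp
  | succ n ih =>
    intro hn i hi
    obtain ⟨h1, h2⟩ := ih (by omega) i hi
    simp only [force_eq] at h1 h2 ⊢
    simp only [show ∀ x y, Nat.lor x y = x ||| y from fun _ _ => rfl, Nat.testBit_lor, hb] at h1 h2 ⊢
    rw [h1, h2]
    by_cases hin : i = n
    · subst hin
      simp only [show ∀ x y, Nat.mul x y = x * y from fun _ _ => rfl, show ∀ x y, Nat.add x y = x + y from fun _ _ => rfl,
        decide_eq_false (show ¬ 9 * i = 81 + 9 * i by omega), decide_eq_false (show ¬ 81 + 9 * i = 9 * i by omega)]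
      simp
    · simp only [show ∀ x y, Nat.mul x y = x * y from fun _ _ => rfl, show ∀ x y, Nat.add x y = x + y from fun _ _ => rfl,
        decide_eq_false (show ¬ 9 * i = 9 * n by omega), decide_eq_false (show ¬ 9 * i = 81 + 9 * n by omega),
        decide_eq_false (show ¬ 81 + 9 * i = 9 * n by omega), decide_eq_false (show ¬ 81 + 9 * i = 81 + 9 * n by omega)]
      have : decide (i < n + 1) = decide (i < n) := decide_eq_decide.mpr (by omega)
      rw [this]
      simp

theorem ent_colOf (v : ℕ) {i : ℕ} (hi : i < 9) :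
    ent (colOf v) i 0 = (v.testBit i).toNat + 2 * (v.testBit (9 + i)).toNat := by
  rw [ent, Nat.add_zero, Nat.add_zero, (colOf_bits v i hi).1, (colOf_bits v i hi).2]

theorem scanOne_intro (A : ℕ) : ∀ n i r : ℕ, i ≤ r → r < i + n → ent A r 0 = 1 →
    (∀ s, i ≤ s → s < r → ent A s 0 = 0) → scanOne A n i = true
  | 0, i, r, h1, h2, _, _ => absurd h2 (by omega)
  | n + 1, i, r, h1, h2, hr, h0 => by
    show (bif Nat.beq (Nat.land (Nat.shiftRight A (9 * i)) 1) 1 then
      Nat.beq (Nat.land (Nat.shiftRight A (81 + 9 * i)) 1) 0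
      else bif Nat.beq (Nat.land (Nat.shiftRight A (81 + 9 * i)) 1) 1 then false
      else scanOne A n (i + 1)) = true
    rw [bitTest, bitTest0, bitTest]
    rcases Nat.eq_or_lt_of_le h1 with rfl | hlt
    · unfold ent at hr
      simp only [Nat.add_zero] at hr
      revert hr
      cases A.testBit (9 * i) <;> cases A.testBit (81 + 9 * i) <;> simp
    · have hi0 := h0 i le_rfl hlt
      unfold ent at hi0
      simp only [Nat.add_zero] at hi0
      have ih := scanOne_intro A n (i + 1) r hlt (by omega) hr fun s hs hs' => h0 s (by omega) hs'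
      revert hi0
      cases A.testBit (9 * i) <;> cases A.testBit (81 + 9 * i) <;> simp [ih]

theorem walk_spec : ∀ n v r : ℕ, walk n v r ≠ 0 → ∀ u, v ≤ u → u < v + n → isoTest u = true →
    ∃ q < 43605, isoV (tget 16 128 isoOrdT q) = u
  | 0, v, r, _, u, h1, h2, _ => absurd h2 (by omega)
  | n + 1, v, r, h, u, h1, h2, hu => by
    change (bif isoTest v then
        bif Nat.beq (isoV (tget 16 128 isoOrdT r)) v && Nat.blt r 43605 then
          force (Nat.succ r) fun r => force (Nat.succ v) fun v => walk n v r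
        else 0
      else force (Nat.succ v) fun v => walk n v r) ≠ 0 at h
    simp only [force_eq] at h
    by_cases ht : isoTest v = true
    · rw [ht, cond_true] at h
      by_cases hq : (Nat.beq (isoV (tget 16 128 isoOrdT r)) v && Nat.blt r 43605) = true
      · rw [hq, cond_true] at h
        rcases Nat.eq_or_lt_of_le h1 with rfl | hlt
        · rw [Bool.and_eq_true, Nat.blt_eq] at hq
          exact ⟨r, hq.2, Nat.eq_of_beq_eq_true hq.1⟩
        · exact walk_spec n (v + 1) (r + 1) h u hlt (by omega) hu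
      · rw [Bool.eq_false_iff.mpr hq, cond_false] at h
        exact absurd rfl h
    · rw [Bool.eq_false_iff.mpr ht, cond_false] at h
      rcases Nat.eq_or_lt_of_le h1 with rfl | hlt
      · exact absurd hu ht
      · exact walk_spec n (v + 1) r h u hlt (by omega) hu

theorem walk_all (u : ℕ) (hu : u < 262144) (ht : isoTest u = true) : ∃ r < 43605, isoV r = u := by
  obtain ⟨s, hs⟩ : ∃ s, s = u / 16384 := ⟨_, rfl⟩
  have key : ∀ a b c, walk 16384 a b = c + 1 → s * 16384 = a → ∃ q < 43605, isoV (tget 16 128 isoOrdT q) = u :=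
    fun a b c h ha => walk_spec 16384 a b (by omega) u (by omega) (by omega) ht
  have hq : ∃ q < 43605, isoV (tget 16 128 isoOrdT q) = u := by
    have hs16 : s < 16 := by omega
    interval_cases s
    · exact key _ _ _ walk_ok0 (by norm_num)
    · exact key _ _ _ walk_ok1 (by norm_num)
    · exact key _ _ _ walk_ok2 (by norm_num)
    · exact key _ _ _ walk_ok3 (by norm_num)
    · exact key _ _ _ walk_ok4 (by norm_num)
    · exact key _ _ _ walk_ok5 (by norm_num)
    · exact key _ _ _ walk_ok6 (by norm_num)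
    · exact key _ _ _ walk_ok7 (by norm_num)
    · exact key _ _ _ walk_ok8 (by norm_num)
    · exact key _ _ _ walk_ok9 (by norm_num)
    · exact key _ _ _ walk_ok10 (by norm_num)
    · exact key _ _ _ walk_ok11 (by norm_num)
    · exact key _ _ _ walk_ok12 (by norm_num)
    · exact key _ _ _ walk_ok13 (by norm_num)
    · exact key _ _ _ walk_ok14 (by norm_num)
    · exact key _ _ _ walk_ok15 (by norm_num)
  obtain ⟨q, hq, e⟩ := hq
  exact ⟨_, Nat.blt_eq.mp (allFrom_spec isoOrd_ok q (Nat.zero_le q) (by omega)), e⟩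

variable {F : Type*} [Field F] {ω : F} (h2 : (2 : F) = 0) (hω : ω ^ 2 + ω + 1 = 0)
include h2 hω

/-- The first column of a number as a vector. -/
theorem col_mul (A B : ℕ) :
    (fun w => toMat ω (mulN A B) w 0) = toMat ω A *ᵥ (fun w => toMat ω B w 0) := by
  rw [toMat_mulN h2 hω]
  rfl

theorem mulVec_single_base (M : Matrix F9 F9 F) :
    M *ᵥ (Pi.single (0 : F9) (1 : F) : F9 → F) = fun w => M w 0 := by
  funext w
  simp [Matrix.mulVec_single]

theorem ncard_orbit_base :
    {L : Submodule F (F9 → F) | ∃ g ∈ Spor.threeJ3 F ω,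
      L = F ∙ ((g : Matrix F9 F9 F) *ᵥ (Pi.single (0 : F9) (1 : F) : F9 → F))}.ncard = 23256 := by
  simp only [mulVec_single_base h2 hω]
  let f : Fin 23256 → Submodule F (F9 → F) := fun i => F ∙ (fun w => toMat ω (trans i) w 0)
  have heq : {L : Submodule F (F9 → F) | ∃ g ∈ Spor.threeJ3 F ω, L = F ∙ (fun w => (g : Matrix F9 F9 F) w 0)} =
      Set.range f := by
    ext L
    constructor
    · rintro ⟨g, hg, rfl⟩
      obtain ⟨i, hi, k, hk, e⟩ := (mem_iff h2 hω g).mp hg
      obtain ⟨c, hc, hcol⟩ := product_col h2 hω (i := i) hk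
      refine ⟨⟨i, hi⟩, ?_⟩
      show F ∙ (fun w => toMat ω (trans i) w 0) = _
      rw [← Submodule.span_singleton_smul_eq (R := F) (IsUnit.mk0 c hc) (fun w => toMat ω (trans i) w 0)]
      congr 2
      funext w
      rw [e, hcol]
      rfl
    · rintro ⟨i, rfl⟩
      obtain ⟨t, ht, htv⟩ := inD_trans h2 hω i i.2
      exact ⟨t, by rw [threeJ3_eq h2 hω]; exact ht, by rw [htv]⟩
  have hf : Function.Injective f := fun i j e => by
    obtain ⟨z, hz⟩ := Submodule.span_singleton_eq_span_singleton.mp e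
    exact Fin.ext (col_unique h2 hω i.2 j.2 z.ne_zero one_ne_zero fun w => by
      rw [one_mul]; exact congrFun hz w)
  rw [heq, ← Set.image_univ, Set.ncard_image_of_injective _ hf, Set.ncard_univ, Nat.card_fin]

theorem isoV_orbit : ∀ r, r < 43605 → ∃ g ∈ Spor.threeJ3 F ω, ∃ c : F, c ≠ 0 ∧
    ((g : GL F9 F) : Matrix F9 F9 F) *ᵥ (fun w => toMat ω (colOf (isoV 0)) w 0) =
      c • (fun w => toMat ω (colOf (isoV r)) w 0) := by
  intro r
  induction r using Nat.strong_induction_on with
  | _ r ih =>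
    intro hr
    rcases Nat.eq_zero_or_pos r with rfl | h0
    · exact ⟨1, one_mem _, 1, one_ne_zero, by rw [Units.val_one, Matrix.one_mulVec, one_smul]⟩
    have h := allFrom_spec isoPar_ok r h0 (by omega)
    simp only [isoParOK, force_eq, Bool.and_eq_true, Nat.blt_eq, Nat.ble_eq] at h
    obtain ⟨⟨⟨hq, hc1⟩, hc3⟩, e⟩ := h
    have e := Nat.eq_of_beq_eq_true e
    set q := Nat.land (tget 24 64 isoParT r) 65535
    set b := Nat.land (Nat.shiftRight (tget 24 64 isoParT r) 16) 1
    set c := Nat.shiftRight (tget 24 64 isoParT r) 17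
    have hb : b < 2 := Nat.lt_succ_of_le Nat.and_le_right
    obtain ⟨g, hg, d, hd, hgd⟩ := ih q hq (by omega)
    obtain ⟨u, hu, huv⟩ := InD.genOf h2 hω hb
    have hψ : psi ω c ≠ 0 := psi_ne_zero h2 hω (by omega) (by omega)
    refine ⟨u * g, mul_mem (by rw [threeJ3_eq h2 hω]; exact hu) hg, d / psi ω c, div_ne_zero hd hψ, ?_⟩
    have hcol : (fun w => toMat ω (colOf (isoV r)) w 0) =
        psi ω c • (toMat ω (genOf b) *ᵥ fun w => toMat ω (colOf (isoV q)) w 0) := by
      rw [e, ← col_mul h2 hω]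
      funext w
      rw [toMat_smulN h2 hω _ _ (by omega)]
      rfl
    rw [Units.val_mul, ← Matrix.mulVec_mulVec, hgd, huv, Matrix.mulVec_smul, hcol, smul_smul, div_mul_cancel₀ _ hψ]

theorem isotropic_mem [Fintype F] (hF : Fintype.card F = 4) {v : F9 → F} (hv : v ≠ 0) (hiso : ∑ z, v z ^ 3 = 0) :
    ∃ r < 43605, ∃ c : F, c ≠ 0 ∧ (fun w => toMat ω (colOf (isoV r)) w 0) = c • v := by
  have hsurj : ∀ x : F, ∃ n < 4, psi ω n = x := fun x => by
    have hinj : Function.Injective (fun n : Fin 4 => psi ω n.1) := fun a b h => Fin.ext (psi_inj h2 hω a.2 b.2 h)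
    have hbij := (Fintype.bijective_iff_injective_and_card _).mpr ⟨hinj, by rw [hF, Fintype.card_fin]⟩
    obtain ⟨n, hn⟩ := hbij.2 x
    exact ⟨n, n.2, hn⟩
  choose code hcode hval using hsurj
  choose pt hpt using fun i : Fin 9 => ix_surj i.2
  have hvne : ∃ i : Fin 9, v (pt i) ≠ 0 := by
    by_contra h
    push Not at h
    refine hv (funext fun z => ?_)
    have := h ⟨ix z, ix_lt z⟩
    rwa [ix_inj _ z (hpt ⟨ix z, ix_lt z⟩)] at this
  classical
  obtain ⟨r, hr, hmin⟩ : ∃ r : Fin 9, v (pt r) ≠ 0 ∧ ∀ s < r, v (pt s) = 0 :=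
    ⟨(Finset.univ.filter fun i => v (pt i) ≠ 0).min' (by obtain ⟨i, hi⟩ := hvne; exact ⟨i, by simp [hi]⟩),
      (Finset.mem_filter.mp (Finset.min'_mem (Finset.univ.filter fun i => v (pt i) ≠ 0) _)).2, fun s hs => by
        by_contra h
        exact absurd (Finset.min'_le _ s (by simp [h])) (not_le.mpr hs)⟩
  let q : Fin 9 → ℕ := fun i => code ((v (pt r))⁻¹ * v (pt i))
  let P : Fin 2 → ℕ → ℕ := fun b i => if h : i < 9 then ((q ⟨i, h⟩).testBit b.1).toNat else 0
  let N := pack 1 9 (P 0) ||| pack 1 9 (P 1) <<< 9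
  have hP : ∀ b, ∀ i < 9, P b i < 2 ^ 1 := fun b i hi => by
    simp only [P, dif_pos hi]; exact (Nat.toNat_testBit _ _).symm ▸ Nat.mod_lt _ (by norm_num)
  have hlane : ∀ b k, k < 9 → (pack 1 9 (P b)).testBit k = (q ⟨k % 9, Nat.mod_lt _ (by norm_num)⟩).testBit b.1 :=
    fun b k hk => by
      rw [testBit_pack (by norm_num) (hP b)]
      simp only [Nat.div_one, Nat.mod_one, P, dif_pos hk, hk, decide_true, Bool.true_and]
      simp only [Nat.mod_eq_of_lt hk]
      cases (q ⟨k, hk⟩).testBit b.1 <;> simp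
  have hlt : ∀ b, pack 1 9 (P b) < 2 ^ 9 := fun b => pack_lt (hP b)
  have hN : N < 262144 :=
    Nat.or_lt_two_pow (n := 18) (lt_trans (hlt 0) (by norm_num))
      (by rw [Nat.shiftLeft_eq]; have := hlt 1; norm_num at this ⊢; omega)
  have hbit : ∀ i : Fin 9, N.testBit i.1 = (q i).testBit 0 ∧ N.testBit (9 + i.1) = (q i).testBit 1 := fun i => by
    constructor
    · rw [Nat.testBit_lor, hlane 0 i i.2, Nat.testBit_shiftLeft, decide_eq_false (show ¬ i.1 ≥ 9 by omega)]
      simp [Nat.mod_eq_of_lt i.2]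
    · rw [Nat.testBit_lor, Nat.testBit_lt_two_pow (lt_of_lt_of_le (hlt 0) (Nat.pow_le_pow_right (by norm_num) (by omega))),
        Nat.testBit_shiftLeft, decide_eq_true (show 9 + i.1 ≥ 9 by omega), show 9 + i.1 - 9 = i.1 by omega, hlane 1 i i.2]
      simp [Nat.mod_eq_of_lt i.2]
  have hent : ∀ i : Fin 9, ent (colOf N) i.1 0 = q i := fun i => by
    rw [ent_colOf _ i.2, (hbit i).1, (hbit i).2]
    have := hcode ((v (pt r))⁻¹ * v (pt i))
    show _ = q i
    have hq : q i < 4 := this
    interval_cases q i <;> rfl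
  have hcolN : (fun w => toMat ω (colOf N) w 0) = (v (pt r))⁻¹ • v := by
    funext w
    have := hent ⟨ix w, ix_lt w⟩
    show entF ω (colOf N) (ix w) 0 = _
    rw [entF_eq_psi, this]
    show psi ω (code _) = _
    rw [hval, ix_inj _ w (hpt ⟨ix w, ix_lt w⟩)]
    rfl
  have hscan : scanOne (colOf N) 9 0 = true := by
    refine scanOne_intro _ 9 0 r.1 (Nat.zero_le _) (by omega) ?_ fun s _ hs => ?_
    · rw [hent r]
      refine psi_inj h2 hω (hcode _) (by norm_num) ?_
      rw [hval, psi_one, inv_mul_cancel₀ hr]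
    · rw [hent ⟨s, by omega⟩]
      refine psi_inj h2 hω (hcode _) (by norm_num) ?_
      rw [hval, psi_zero, hmin ⟨s, by omega⟩ hs, mul_zero]
  have hodd : oddWeight N = false := by
    have hcnt : ∀ n ≤ 9, bitF F (Nat.rec (motive := fun _ => Bool) false
        (fun k ih => bif Nat.beq (Nat.land (Nat.shiftRight (Nat.lor N (Nat.shiftRight N 9)) k) 1) 1 then !ih else ih) n) =
        ∑ i ∈ Finset.range n, if h : i < 9 then ((v (pt r))⁻¹ * v (pt ⟨i, h⟩)) ^ 3 else 0 := by
      intro n hn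
      induction n with
      | zero => rfl
      | succ n ih =>
        rw [oddWeight_succ, bitF_xor h2, ih (by omega), Finset.sum_range_succ, dif_pos (show n < 9 by omega), add_comm]
        congr 1
        rw [(hbit ⟨n, by omega⟩).1, (hbit ⟨n, by omega⟩).2, ← hval ((v (pt r))⁻¹ * v (pt ⟨n, by omega⟩))]
        show bitF F ((q ⟨n, _⟩).testBit 0 || (q ⟨n, _⟩).testBit 1) = psi ω (q ⟨n, _⟩) ^ 3
        have hq : q ⟨n, by omega⟩ < 4 := hcode _
        have h3 := omega_cube h2 hω
        interval_cases q ⟨n, by omega⟩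
        · simp +decide [bitF, psi_zero]
        · simp +decide [bitF, psi_one]
        · simp +decide [bitF, psi_two, h3]
        · simp +decide [bitF, psi_three]
          linear_combination (-3 : F) * hω + h2 - h3
    have h9 := hcnt 9 le_rfl
    rw [show (∑ i ∈ Finset.range 9, if h : i < 9 then ((v (pt r))⁻¹ * v (pt ⟨i, h⟩)) ^ 3 else 0) =
        ∑ z, ((v (pt r))⁻¹ * v z) ^ 3 from ?_] at h9
    · simp only [mul_pow] at h9
      rw [← Finset.mul_sum, hiso, mul_zero] at h9
      show oddWeight N = false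
      cases ho : oddWeight N
      · rfl
      · change bitF F (oddWeight N) = 0 at h9
        rw [ho] at h9
        exact absurd h9 (by simp [bitF])
    · rw [Finset.sum_range]
      refine Fintype.sum_equiv (Equiv.ofBijective pt ⟨fun a b h => Fin.ext (by rw [← hpt a, ← hpt b, h]),
        fun z => ⟨⟨ix z, ix_lt z⟩, ix_inj _ z (hpt _)⟩⟩) _ _ fun i => ?_
      rw [dif_pos i.2]; rfl
  obtain ⟨m, hm, hmN⟩ := walk_all N hN (by rw [isoTest, hodd, hscan]; rfl)
  exact ⟨m, hm, (v (pt r))⁻¹, inv_ne_zero hr, by rw [hmN]; exact hcolN⟩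

theorem isotropic_orbit [Fintype F] (hF : Fintype.card F = 4) (v w : F9 → F) (hv : v ≠ 0) (hw : w ≠ 0)
    (hv3 : ∑ z, v z ^ 3 = 0) (hw3 : ∑ z, w z ^ 3 = 0) :
    ∃ g ∈ Spor.threeJ3 F ω, ∃ c : F, c ≠ 0 ∧ ((g : GL F9 F) : Matrix F9 F9 F) *ᵥ v = c • w := by
  obtain ⟨i, hi, a, ha, hav⟩ := isotropic_mem h2 hω hF hv hv3
  obtain ⟨j, hj, b, hb, hbw⟩ := isotropic_mem h2 hω hF hw hw3
  obtain ⟨g, hg, c, hc, hgc⟩ := isoV_orbit h2 hω i hi
  obtain ⟨k, hk, d, hd, hkd⟩ := isoV_orbit h2 hω j hj
  rw [hav] at hgc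
  rw [hbw] at hkd
  have hgi : ((g⁻¹ : GL F9 F) : Matrix F9 F9 F) *ᵥ (((g : GL F9 F) : Matrix F9 F9 F) *ᵥ
      fun w => toMat ω (colOf (isoV 0)) w 0) = fun w => toMat ω (colOf (isoV 0)) w 0 := by
    rw [Matrix.mulVec_mulVec, ← Units.val_mul, inv_mul_cancel, Units.val_one, Matrix.one_mulVec]
  refine ⟨k * g⁻¹, mul_mem hk (inv_mem hg), (c * a)⁻¹ * (d * b), mul_ne_zero (inv_ne_zero (mul_ne_zero hc ha)) (mul_ne_zero hd hb), ?_⟩
  rw [hgc, smul_smul, Matrix.mulVec_smul] at hgi
  have hv' : ((g⁻¹ : GL F9 F) : Matrix F9 F9 F) *ᵥ v = (c * a)⁻¹ • (fun w => toMat ω (colOf (isoV 0)) w 0) := by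
    rw [← hgi, smul_smul, inv_mul_cancel₀ (mul_ne_zero hc ha), one_smul]
  rw [Units.val_mul, ← Matrix.mulVec_mulVec, hv', Matrix.mulVec_smul, hkd, smul_smul, smul_smul, mul_assoc]

end Cfsg.Agent.JankoThree
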