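/-
`J₃` as a permutation group of degree 6156.
Main results (namespace `Cfsg.Agent.JankoThree`): `closure_subset_of_stable`, `exists_subgroup_24480`,
`perm_realization`.
-/
import Cfsg.Agent.Lib.JankoThree.Krylov
import Cfsg.Agent.Lib.JankoThree.CertPoint
import Cfsg.Prelude.Def_Sporadic

set_option autoImplicit false

namespace Cfsg.Agent.JankoThree

open Cfsg.Agent.CosetEnum
open Cfsg.Spor (F9)
open scoped MatrixGroups

/-- A finite set containing one and stable under left multiplication by `T` contains the closure of `T`. -/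
theorem closure_subset_of_stable {G : Type*} [Group G] {S : Set G} (hS : S.Finite) (h1 : (1 : G) ∈ S) {T : Set G}
    (hT : ∀ t ∈ T, ∀ s ∈ S, t * s ∈ S) : (Subgroup.closure T : Set G) ⊆ S := by
  intro g hg
  refine Subgroup.closure_induction_left (p := fun g _ => g ∈ S) h1 (fun x hx y _ h => hT x hx y h) ?_ hg
  intro x hx y _ h
  have hfin : Finite S := hS.to_subtype
  have hinj : Function.Injective (fun s : S => (⟨x * s, hT x hx s s.2⟩ : S)) := fun a b e =>
    Subtype.ext (mul_left_cancel (congrArg Subtype.val e))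
  obtain ⟨s, hs⟩ := (Finite.injective_iff_surjective.mp hinj) ⟨y, h⟩
  have : x⁻¹ * y = s := by rw [← show x * s.1 = y from congrArg Subtype.val hs, inv_mul_cancel_left]
  exact this ▸ s.2

variable {F : Type*} [Field F] {ω : F} (h2 : (2 : F) = 0) (hω : ω ^ 2 + ω + 1 = 0)
include h2 hω

theorem inD_subFac {n e : ℕ} (h : subFacOK n e = true) : InD h2 hω n := by
  simp only [subFacOK, Bool.and_eq_true, Nat.blt_eq] at h
  rw [Nat.eq_of_beq_eq_true h.2]
  exact InD.mul h2 hω (inD_trans h2 hω _ h.1.1) (inD_hs h2 hω _ h.1.2)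

theorem exists_subgroup_24480 :
    ∃ M : Subgroup (Spor.threeJ3 F ω), Subgroup.center _ ≤ M ∧ Nat.card M = 24480 := by
  haveI : Finite (Spor.threeJ3 F ω) := Nat.finite_of_card_ne_zero (by rw [card_threeJ3 h2 hω]; norm_num)
  haveI : Fact (Nat.Prime 17) := ⟨by norm_num⟩
  have hb := subBase_ok
  simp only [subBase, Bool.and_eq_true, Bool.not_eq_true'] at hb
  obtain ⟨⟨⟨⟨⟨⟨⟨b1, b2⟩, b3⟩, b4⟩, b5⟩, b6⟩, b7⟩, b8⟩ := hb
  have hlift : ∀ n, InD h2 hω n → ∃ g : Spor.threeJ3 F ω, ((g : GL F9 F) : Matrix F9 F9 F) = toMat ω n :=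
    fun n ⟨g, hg, e⟩ => ⟨⟨g, by rw [threeJ3_eq h2 hω]; exact hg⟩, e⟩
  have hext : ∀ g g' : Spor.threeJ3 F ω,
      ((g : GL F9 F) : Matrix F9 F9 F) = ((g' : GL F9 F) : Matrix F9 F9 F) → g = g' :=
    fun g g' e => Subtype.ext (Units.ext e)
  have hgenD : ∀ g < 3, InD h2 hω (subGen g) := fun g hg => by
    interval_cases g
    · exact inD_subFac h2 hω b6
    · exact inD_subFac h2 hω b7
    · exact InD.smul h2 hω (inD_one h2 hω) (Or.inr (Or.inl rfl))
  have hact : ∀ k < 1440, ∀ g < 3, tget 16 128 subActT (3 * k + g) < 1440 ∧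
      mulN (subGen g) (subK k) = subK (tget 16 128 subActT (3 * k + g)) := fun k hk g hg => by
    have h := allFrom_spec subAct_ok k (Nat.zero_le k) (by omega)
    simp only [subActOK, force_eq, Bool.and_eq_true] at h
    have h' := allFrom_spec h.1 g (Nat.zero_le g) (by omega)
    simp only [force_eq, Bool.and_eq_true, Nat.blt_eq] at h'
    exact ⟨h'.1, Nat.eq_of_beq_eq_true h'.2⟩
  have hKD : ∀ k < 1440, InD h2 hω (subK k) := by
    intro k
    induction k using Nat.strong_induction_on with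
    | _ k ih =>
      intro hk
      rcases Nat.eq_zero_or_pos k with rfl | h0
      · rw [Nat.eq_of_beq_eq_true b1]; exact inD_one h2 hω
      have h := allFrom_spec subAct_ok k (Nat.zero_le k) (by omega)
      simp only [subActOK, force_eq, Bool.and_eq_true, Bool.or_eq_true, Nat.blt_eq] at h
      rcases h.2 with h' | ⟨hp, he⟩
      · exact absurd (Nat.eq_of_beq_eq_true h') (by omega)
      have e := (hact _ (show tget 16 128 subParT k / 3 < 1440 from lt_trans hp hk) _
        (Nat.mod_lt (tget 16 128 subParT k) (by norm_num : 3 > 0))).2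
      rw [Nat.div_add_mod, Nat.eq_of_beq_eq_true he] at e
      rw [← e]
      exact InD.mul h2 hω (hgenD _ (Nat.mod_lt _ (by norm_num))) (ih _ hp (lt_trans hp hk))
  choose u hu using fun g : Fin 3 => hlift _ (hgenD g g.2)
  choose kk hkk using fun k : Fin 1440 => hlift _ (hKD k k.2)
  obtain ⟨p, hp⟩ := hlift _ (inD_subFac h2 hω b5)
  have hpowp : ∀ i, i < 17 → ((p ^ i : Spor.threeJ3 F ω) : GL F9 F).val = toMat ω (subPw i) := by
    intro i
    induction i with
    | zero => intro _; rw [Nat.eq_of_beq_eq_true b2, toMat_oneN]; rfl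
    | succ i ih =>
      intro hi
      rw [← Nat.eq_of_beq_eq_true (allFrom_spec b8 i (Nat.zero_le i) (by omega)), toMat_mulN h2 hω, pow_succ',
        ← hp, ← ih (by omega)]
      rfl
  have hp17 : p ^ 17 = 1 := hext _ _ <| by
    have e := congrArg (toMat ω) (Nat.eq_of_beq_eq_true b4)
    rw [toMat_mulN h2 hω, toMat_oneN, ← hp, ← hpowp 16 (by norm_num)] at e
    rw [pow_succ']
    exact e
  have hp1 : p ≠ 1 := fun e => by
    have hlt : subP < 2 ^ 162 ∧ oneN < 2 ^ 162 := by decide +kernel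
    refine Nat.ne_of_beq_eq_false b3 (toMat_inj h2 hω hlt.1 hlt.2 ?_)
    rw [toMat_oneN, ← hp, e]
    rfl
  -- the subgroup of order 1440
  let K : Subgroup (Spor.threeJ3 F ω) := Subgroup.closure (Set.range u)
  have hstep : ∀ (g : Fin 3) (k : Fin 1440), ∃ m : Fin 1440, u g * kk k = kk m := fun g k => by
    obtain ⟨hlt, e⟩ := hact k k.2 g g.2
    refine ⟨⟨_, hlt⟩, hext _ _ ?_⟩
    rw [hkk, ← e, toMat_mulN h2 hω, ← hu, ← hkk]
    rfl
  have hK0 : kk 0 = 1 := hext _ _ <| by
    rw [hkk]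
    show toMat ω (subK 0) = _
    rw [Nat.eq_of_beq_eq_true b1, toMat_oneN]
    rfl
  have hKsub : (K : Set (Spor.threeJ3 F ω)) ⊆ Set.range kk :=
    closure_subset_of_stable (Set.finite_range kk) ⟨0, hK0⟩ (by
      rintro _ ⟨g, rfl⟩ _ ⟨k, rfl⟩
      obtain ⟨m, hm⟩ := hstep g k
      exact ⟨m, hm.symm⟩)
  have hKmem : ∀ k, k < 1440 → ∀ h : k < 1440, kk ⟨k, h⟩ ∈ K := by
    intro k
    induction k using Nat.strong_induction_on with
    | _ k ih =>
      intro hk _
      rcases Nat.eq_zero_or_pos k with rfl | h0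
      · rw [show (⟨0, hk⟩ : Fin 1440) = 0 from rfl, hK0]; exact one_mem _
      have h := allFrom_spec subAct_ok k (Nat.zero_le k) (by omega)
      simp only [subActOK, force_eq, Bool.and_eq_true, Bool.or_eq_true, Nat.blt_eq] at h
      rcases h.2 with h' | ⟨hq, he⟩
      · exact absurd (Nat.eq_of_beq_eq_true h') (by omega)
      have hq' : tget 16 128 subParT k / 3 < 1440 := lt_trans hq hk
      obtain ⟨-, e⟩ := hact _ hq' _ (Nat.mod_lt (tget 16 128 subParT k) (by norm_num : 3 > 0))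
      rw [Nat.div_add_mod, Nat.eq_of_beq_eq_true he] at e
      have : kk ⟨k, hk⟩ = u ⟨tget 16 128 subParT k % 3, Nat.mod_lt _ (by norm_num)⟩ * kk ⟨_, hq'⟩ := hext _ _ <| by
        rw [hkk, ← e, toMat_mulN h2 hω]
        show _ = _ * _
        rw [hu, hkk]
      rw [this]
      exact mul_mem (Subgroup.subset_closure ⟨_, rfl⟩) (ih _ hq (lt_trans hq hk) hq')
  have hkinj : Function.Injective kk := by
    intro k l e
    have e' : subK k = subK l := toMat_inj h2 hω (tget_lt _ _ _ _) (tget_lt _ _ _ _) (by rw [← hkk, ← hkk, e])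
    have hmono : ∀ a b, a < b → b < 1440 → subK (tget 16 128 subPermT a) < subK (tget 16 128 subPermT b) := by
      intro a b hab
      induction b with
      | zero => omega
      | succ b ih =>
        intro hb
        have hs := Nat.blt_eq.mp (allFrom_spec subSort_ok b (Nat.zero_le b) (by omega))
        rcases Nat.lt_succ_iff_lt_or_eq.mp hab with hl | rfl
        · exact lt_trans (ih hl (by omega)) hs
        · exact hs
    have hrk : ∀ q : Fin 1440, ∃ a < 1440, tget 16 128 subPermT a = q.1 := fun q => by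
      have := allFrom_spec subRank_ok q.1 (Nat.zero_le _) (by omega)
      simp only [subRankOK, force_eq, Bool.and_eq_true, Nat.blt_eq] at this
      exact ⟨_, this.1, Nat.eq_of_beq_eq_true this.2⟩
    obtain ⟨a, ha, hak⟩ := hrk k
    obtain ⟨b, hb, hbl⟩ := hrk l
    rw [← hak, ← hbl] at e'
    rcases lt_trichotomy a b with hlt | rfl | hlt
    · exact absurd e' (hmono a b hlt hb).ne
    · exact Fin.ext (hak.symm.trans hbl)
    · exact absurd e' (hmono b a hlt ha).ne'
  have hKeq : (K : Set (Spor.threeJ3 F ω)) = Set.range kk :=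
    Set.Subset.antisymm hKsub (by rintro _ ⟨k, rfl⟩; exact hKmem k k.2 k.2)
  have hKcard : Nat.card K = 1440 := by
    show Nat.card (K : Set (Spor.threeJ3 F ω)) = 1440
    rw [hKeq, Nat.card_range_of_injective hkinj, Nat.card_fin]
  -- the subgroup of order 24480
  let M : Subgroup (Spor.threeJ3 F ω) := Subgroup.closure (insert p (Set.range u))
  let prod : Fin 17 × Fin 1440 → Spor.threeJ3 F ω := fun a => p ^ a.1.1 * kk a.2
  have hMsub : (M : Set (Spor.threeJ3 F ω)) ⊆ Set.range prod := by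
    refine closure_subset_of_stable (Set.finite_range prod) ⟨(0, 0), by simp [prod, hK0]⟩ ?_
    rintro t ht _ ⟨⟨i, k⟩, rfl⟩
    rcases ht with ht | ⟨g, rfl⟩
    · subst t
      refine ⟨(⟨(i.1 + 1) % 17, Nat.mod_lt _ (by norm_num)⟩, k), ?_⟩
      show p ^ ((i.1 + 1) % 17) * kk k = p * (p ^ i.1 * kk k)
      rw [← pow_eq_pow_mod _ hp17, pow_succ', mul_assoc]
    by_cases hg : g.1 < 2
    · have h := allFrom_spec subCross_ok i.1 (Nat.zero_le _) (by omega)
      simp only [subCrossOK] at h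
      have h' := allFrom_spec h g.1 (Nat.zero_le _) (by omega)
      simp only [force_eq, Bool.and_eq_true, Nat.blt_eq] at h'
      obtain ⟨⟨hj, hm⟩, e⟩ := h'
      have e1 : u g * p ^ i.1 = p ^ (Nat.land (tget 16 64 subCrossT (Nat.add (Nat.mul 2 i) g)) 31) * kk ⟨_, hm⟩ :=
        hext _ _ <| by
          have e := congrArg (toMat ω) (Nat.eq_of_beq_eq_true e)
          rw [toMat_mulN h2 hω, toMat_mulN h2 hω, ← hu, ← hpowp _ i.2, ← hpowp _ hj, ← hkk ⟨_, hm⟩] at e
          exact e
      have hin : kk ⟨_, hm⟩ * kk k ∈ (K : Set (Spor.threeJ3 F ω)) := mul_mem (hKmem _ hm hm) (hKmem k k.2 k.2)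
      obtain ⟨m, hm'⟩ := hKsub hin
      refine ⟨(⟨_, hj⟩, m), ?_⟩
      show p ^ _ * kk m = u g * (p ^ i.1 * kk k)
      rw [hm', ← mul_assoc, ← mul_assoc, e1]
    · have hg2 : g = 2 := Fin.ext (by show g.1 = 2; omega)
      subst hg2
      obtain ⟨m, hm⟩ := hstep 2 k
      refine ⟨(i, m), ?_⟩
      show p ^ i.1 * kk m = u 2 * (p ^ i.1 * kk k)
      have hc : Commute (u 2) (p ^ i.1) := hext _ _ <| by
        show ((u 2 : GL F9 F) : Matrix F9 F9 F) * _ = _ * ((u 2 : GL F9 F) : Matrix F9 F9 F)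
        rw [hu]
        show toMat ω (smulN 2 oneN) * _ = _ * toMat ω (smulN 2 oneN)
        rw [toMat_smulN h2 hω _ _ (Or.inr (Or.inl rfl)), toMat_oneN, Matrix.smul_mul, Matrix.mul_smul, Matrix.one_mul,
          Matrix.mul_one]
      rw [← hm, ← mul_assoc, ← mul_assoc, hc.eq]
  have hup : Nat.card M ≤ 24480 := by
    have := Nat.card_mono (Set.finite_range prod) hMsub
    have hle : Nat.card (Set.range prod) ≤ 24480 :=
      (Finite.card_range_le prod).trans (by rw [Nat.card_prod, Nat.card_fin, Nat.card_fin])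
    exact this.trans hle
  have hKM : K ≤ M := Subgroup.closure_mono (Set.subset_insert _ _)
  have hpM : p ∈ M := Subgroup.subset_closure (Set.mem_insert _ _)
  refine ⟨M, ?_, ?_⟩
  · intro z hz
    have hz' : (z : GL F9 F) ∈ Subgroup.zpowers (scalarUnit hω) := by
      rw [← center_map h2 hω]; exact ⟨z, hz, rfl⟩
    obtain ⟨n, hn⟩ := Subgroup.mem_zpowers_iff.mp hz'
    have hu2 : (u 2 : GL F9 F) = scalarUnit hω := Units.ext <| by
      rw [hu]
      show toMat ω (smulN 2 oneN) = _
      rw [toMat_smulN h2 hω _ _ (Or.inr (Or.inl rfl)), psi_two, toMat_oneN]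
      rfl
    have : z = u 2 ^ n := Subtype.ext (by rw [SubgroupClass.coe_zpow, hu2, hn])
    rw [this]
    exact hKM (zpow_mem (Subgroup.subset_closure (Set.mem_range_self 2)) n)
  · refine le_antisymm hup (Nat.le_of_dvd Nat.card_pos ?_)
    have h1 : 1440 ∣ Nat.card M := hKcard ▸ Subgroup.card_dvd_of_le hKM
    have h17 : 17 ∣ Nat.card M := by
      have := Subgroup.orderOf_dvd_natCard M hpM
      rwa [orderOf_eq_prime hp17 hp1] at this
    exact (by norm_num : (24480 : ℕ) = 1440 * 17) ▸ Nat.Coprime.mul_dvd_of_dvd_of_dvd (by norm_num) h1 h17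

theorem perm_realization : ∃ H : Subgroup (Equiv.Perm (Fin 6156)), IsJ3 H ∧
    MulAction.IsPretransitive H (Fin 6156) ∧ Nat.card (MulAction.stabilizer H (0 : Fin 6156)) = 8160 := by
  classical
  obtain ⟨hS, hJ⟩ := simple_J3 h2 hω
  haveI := hS
  haveI : Finite (Spor.threeJ3 F ω) := Nat.finite_of_card_ne_zero (by rw [card_threeJ3 h2 hω]; norm_num)
  obtain ⟨M, hZM, hM⟩ := exists_subgroup_24480 h2 hω
  let N : Subgroup (Spor.J3 F ω) := M.map (QuotientGroup.mk' _)
  have hidx : N.index = 6156 := by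
    rw [← Subgroup.index_comap_of_surjective N (QuotientGroup.mk'_surjective _),
      Subgroup.comap_map_eq, QuotientGroup.ker_mk', sup_eq_left.mpr hZM]
    have := Subgroup.card_mul_index M
    rw [hM, card_threeJ3 h2 hω] at this
    omega
  have hN : Nat.card N = 8160 := by
    have := Subgroup.card_mul_index N
    rw [hidx, hJ] at this
    omega
  let e₀ : Spor.J3 F ω ⧸ N ≃ Fin 6156 := Finite.equivFinOfCardEq (by rw [← hidx]; rfl)
  let e : Spor.J3 F ω ⧸ N ≃ Fin 6156 := e₀.trans (Equiv.swap (e₀ ((1 : Spor.J3 F ω) : Spor.J3 F ω ⧸ N)) 0)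
  have he : e ((1 : Spor.J3 F ω) : Spor.J3 F ω ⧸ N) = 0 := by simp [e]
  let ψ : Spor.J3 F ω →* Equiv.Perm (Fin 6156) :=
    e.permCongrHom.toMonoidHom.comp (MulAction.toPermHom (Spor.J3 F ω) (Spor.J3 F ω ⧸ N))
  have hψ : ∀ g x, ψ g x = e (g • e.symm x) := fun g x => rfl
  have hinj : Function.Injective ψ := by
    rw [← MonoidHom.ker_eq_bot_iff]
    refine (IsSimpleGroup.eq_bot_or_eq_top_of_normal _ (MonoidHom.normal_ker ψ)).resolve_right fun htop => ?_
    have hle : (⊤ : Subgroup (Spor.J3 F ω)) ≤ N := fun g _ => by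
      have h1 : ψ g = 1 := MonoidHom.mem_ker.mp (htop ▸ Subgroup.mem_top g)
      have h2' : e (g • ((1 : Spor.J3 F ω) : Spor.J3 F ω ⧸ N)) = 0 := by
        have := congrArg (fun σ : Equiv.Perm (Fin 6156) => σ 0) h1
        change ψ g 0 = 0 at this
        rwa [hψ, ← he, Equiv.symm_apply_apply, he] at this
      rw [← he] at h2'
      have h3 := e.injective h2'
      rw [MulAction.Quotient.smul_coe, smul_eq_mul, mul_one] at h3
      simpa using QuotientGroup.eq.mp h3
    rw [top_le_iff.mp hle, Subgroup.index_top] at hidx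
    omega
  let i : Spor.J3 F ω ≃* ψ.range := MonoidHom.ofInjective hinj
  refine ⟨ψ.range, ⟨i.symm.isSimpleGroup, by rw [← hJ]; exact (Nat.card_congr i.toEquiv).symm⟩, ⟨fun a b => ?_⟩, ?_⟩
  · obtain ⟨g, hg⟩ := MulAction.exists_smul_eq (Spor.J3 F ω) (e.symm a) (e.symm b)
    refine ⟨i g, ?_⟩
    show ψ g a = b
    rw [hψ, hg, Equiv.apply_symm_apply]
  · rw [← hN]
    refine (Nat.card_congr (Equiv.subtypeEquiv i.toEquiv fun g => ?_)).symm
    show g ∈ N ↔ ψ g 0 = 0
    rw [hψ, ← he, Equiv.symm_apply_apply, e.apply_eq_iff_eq, MulAction.Quotient.smul_coe, smul_eq_mul, mul_one]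
    exact ⟨fun h => (QuotientGroup.eq.mpr (by simpa using h)), fun h => by simpa using QuotientGroup.eq.mp h⟩

end Cfsg.Agent.JankoThree
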