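/-
Tables of numbers for the certificate: binary trees of packed lanes, and bounded quantification for the kernel.
Main results (namespace `Cfsg.Agent.JankoThree`): `Tree`, `Tree.get`, `tget`, `allFrom`, `allFrom_spec`.
-/
import Cfsg.Agent.Lib.CosetEnum.Pack

set_option autoImplicit false

namespace Cfsg.Agent.JankoThree

open Cfsg.Agent.CosetEnum

/-- A binary tree of numbers. -/
inductive Tree where
  | leaf (v : ℕ)
  | node (l r : Tree)

/-- Lookup, the lowest bit first. -/
noncomputable def Tree.get (t : Tree) : ℕ → ℕ :=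
  Tree.rec (motive := fun _ => ℕ → ℕ) (fun v _ => v)
    (fun _ _ ihl ihr i =>
      bif Nat.beq (Nat.land i 1) 0 then ihl (Nat.shiftRight i 1) else ihr (Nat.shiftRight i 1)) t

/-- Entry `i` of a tree of numbers holding `k` lanes of `w` bits each. -/
noncomputable def tget (w k : ℕ) (t : Tree) (i : ℕ) : ℕ :=
  force (t.get (Nat.div i k)) fun v => force (lane w v (Nat.mod i k)) fun r => r

theorem tget_lt (w k : ℕ) (t : Tree) (i : ℕ) : tget w k t i < 2 ^ w := by
  rw [tget, force_eq, force_eq]
  exact lane_lt _ _ _

/-- `p i` for all `lo ≤ i < lo + n`. -/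
noncomputable def allFrom (p : ℕ → Bool) (lo n : ℕ) : Bool :=
  Nat.rec (motive := fun _ => Bool) true (fun k ih => bif force (Nat.add lo k) p then ih else false) n

theorem allFrom_spec {p : ℕ → Bool} {lo : ℕ} :
    ∀ {n : ℕ}, allFrom p lo n = true → ∀ i, lo ≤ i → i < lo + n → p i = true
  | 0, _, i, h1, h2 => absurd h2 (not_lt.mpr h1)
  | n + 1, h, i, h1, h2 => by
    change (bif force (lo + n) p then allFrom p lo n else false) = true at h
    rw [force_eq] at h
    cases hp : p (lo + n)
    · simp [hp] at h
    · rw [hp] at h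
      rcases Nat.lt_succ_iff_lt_or_eq.mp (show i < lo + n + 1 from h2) with h' | rfl
      · exact allFrom_spec h i h1 h'
      · exact hp

end Cfsg.Agent.JankoThree
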