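/-
`3.J₃` inside the special unitary group of dimension 9.
Main results (namespace `Cfsg.Agent.JankoThree`): `unitary_realization`, `quotient_center_congr`.
-/
import Cfsg.Agent.Lib.JankoThree.Krylov
import Cfsg.Agent.Lib.U62Cover.Field
import Cfsg.Prelude.Def_Classical
import Cfsg.Prelude.Def_Sporadic

set_option autoImplicit false

namespace Cfsg.Agent.JankoThree

open Cfsg.Spor (F9)
open scoped MatrixGroups Matrix

/-- The quotient of isomorphic groups by their centres. -/
noncomputable def quotient_center_congr {G H : Type*} [Group G] [Group H] (e : G ≃* H) :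
    G ⧸ Subgroup.center G ≃* H ⧸ Subgroup.center H :=
  QuotientGroup.congr _ _ e (by
    ext h
    rw [Subgroup.mem_map, Subgroup.mem_center_iff]
    constructor
    · rintro ⟨g, hg, rfl⟩ k
      obtain ⟨k, rfl⟩ := e.surjective k
      show e k * e g = e g * e k
      rw [← map_mul, ← map_mul, Subgroup.mem_center_iff.mp hg k]
    · intro hh
      refine ⟨e.symm h, Subgroup.mem_center_iff.mpr fun k => e.injective ?_, e.apply_symm_apply h⟩
      rw [map_mul, map_mul, e.apply_symm_apply, hh])

theorem conj_check : ∀ i, i < 9 → ∀ j, j < 9 →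
    ent gXi i j = [0, 1, 3, 2].getD (ent gX j i) 0 ∧ ent gYi i j = [0, 1, 3, 2].getD (ent gY j i) 0 := by
  decide +kernel

/-- The numbering of the indices. -/
noncomputable def ixEquiv : F9 ≃ Fin 9 :=
  Equiv.ofBijective (fun z => ⟨ix z, ix_lt z⟩)
    ⟨fun a b h => ix_inj a b (congrArg Fin.val h), fun n => (ix_surj n.2).imp fun _ h => Fin.ext h⟩

variable {F : Type} [Field F] {ω : F} (h2 : (2 : F) = 0) (hω : ω ^ 2 + ω + 1 = 0)
include h2 hω

theorem psi_conj {c : ℕ} (hc : c < 4) : psi ω ([0, 1, 3, 2].getD c 0) = psi ω c ^ 2 := by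
  interval_cases c <;> simp only [List.getD_cons_zero, List.getD_cons_succ, psi_zero, psi_one, psi_two, psi_three]
  · ring
  · ring
  · linear_combination -hω + (1 + ω) * h2
  · linear_combination -hω

theorem unitOf_unitary {b : ℕ} (hb : b < 2) (w z : F9) :
    ∑ v, ((unitOf h2 hω b : GL F9 F) : Matrix F9 F9 F) v w ^ 2 * ((unitOf h2 hω b : GL F9 F) : Matrix F9 F9 F) v z =
      if w = z then 1 else 0 := by
  obtain ⟨-, -, -, -, -, -, -, -, -, -, -, -, -, -, -, -, -, -, hx, -, hy, -⟩ := base_facts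
  have key : ∀ A B : ℕ, mulN B A = oneN → (∀ i, i < 9 → ∀ j, j < 9 → ent B i j = [0, 1, 3, 2].getD (ent A j i) 0) →
      ∑ v, toMat ω A v w ^ 2 * toMat ω A v z = if w = z then 1 else 0 := by
    intro A B hBA hc
    have h := congrFun (congrFun ((toMat_mulN h2 hω B A).symm.trans (by rw [hBA, toMat_oneN])) w) z
    rw [Matrix.mul_apply, Matrix.one_apply] at h
    rw [← h]
    refine Finset.sum_congr rfl fun v _ => ?_
    congr 1
    show entF ω A (ix v) (ix w) ^ 2 = entF ω B (ix w) (ix v)
    rw [entF_eq_psi, entF_eq_psi, hc _ (ix_lt w) _ (ix_lt v), psi_conj h2 hω (ent_lt _ _ _)]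
  rw [unitOf_val]
  interval_cases b
  · exact key _ _ hx fun i hi j hj => (conj_check i hi j hj).1
  · exact key _ _ hy fun i hi j hj => (conj_check i hi j hj).2

theorem form_eq (M : Matrix F9 F9 F) (hM : ∀ w z, ∑ v, M v w ^ 2 * M v z = if w = z then 1 else 0) (u v : F9 → F) :
    ∑ i, (M *ᵥ u) i * (M *ᵥ v) i ^ 2 = ∑ i, u i * v i ^ 2 := by
  haveI : CharP F 2 := (CharP.charP_iff_prime_eq_zero Nat.prime_two).mpr (by exact_mod_cast h2)
  simp only [Matrix.mulVec, dotProduct, sum_pow_char (p := 2), mul_pow, Finset.sum_mul_sum]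
  rw [Finset.sum_comm]
  refine Finset.sum_congr rfl fun a _ => ?_
  rw [Finset.sum_comm, Finset.sum_eq_single a]
  · have := hM a a
    rw [if_pos rfl] at this
    calc ∑ i, M i a * u a * (M i a ^ 2 * v a ^ 2)
        = (∑ i, M i a ^ 2 * M i a) * (u a * v a ^ 2) := by
          rw [Finset.sum_mul]; exact Finset.sum_congr rfl fun i _ => by ring
      _ = u a * v a ^ 2 := by rw [this, one_mul]
  · intro b _ hb
    have := hM b a
    rw [if_neg hb] at this
    calc ∑ i, M i a * u a * (M i b ^ 2 * v b ^ 2)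
        = (∑ i, M i b ^ 2 * M i a) * (u a * v b ^ 2) := by
          rw [Finset.sum_mul]; exact Finset.sum_congr rfl fun i _ => by ring
      _ = 0 := by rw [this, zero_mul]
  · intro h; exact absurd (Finset.mem_univ a) h

theorem exists_su_subgroup [Fintype F] (hF : Fintype.card F = 4) :
    ∃ H : Subgroup (SU 9 F 2), Nat.card (Subgroup.center H) = 3 ∧ IsJ3 (H ⧸ Subgroup.center H) := by
  classical
  have hdet : ∀ g ∈ genGroup h2 hω, Matrix.det ((g : GL F9 F) : Matrix F9 F9 F) = 1 := by
    intro g hg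
    have hker : genGroup h2 hω ≤ (Matrix.GeneralLinearGroup.det (n := F9) (R := F)).ker := by
      rw [genGroup, Subgroup.closure_le]
      have hd : ∀ b < 2, Matrix.GeneralLinearGroup.det (unitOf h2 hω b) = 1 := fun b hb => by
        have h19 : Matrix.GeneralLinearGroup.det (unitOf h2 hω b) ^ 19 = 1 := by
          rw [← map_pow, unitOf_pow_nineteen h2 hω hb, map_one]
        have h3 : Matrix.GeneralLinearGroup.det (unitOf h2 hω b) ^ 3 = 1 :=
          Units.ext (by rw [Units.val_pow_eq_pow_val]; exact U62Cover.pow_three hF (Units.ne_zero _))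
        simpa using (pow_gcd_eq_one (a := Matrix.GeneralLinearGroup.det (unitOf h2 hω b))).mpr ⟨h19, h3⟩
      rintro x (rfl | rfl)
      · exact hd 0 (by norm_num)
      · exact hd 1 (by norm_num)
    have h1 := MonoidHom.mem_ker.mp (hker hg)
    rw [← Matrix.GeneralLinearGroup.val_det_apply, h1, Units.val_one]
  let φ : genGroup h2 hω →* Matrix.SpecialLinearGroup (Fin 9) F :=
    { toFun := fun g => ⟨Matrix.reindex ixEquiv ixEquiv ((g : GL F9 F) : Matrix F9 F9 F),
        by rw [Matrix.det_reindex_self]; exact hdet _ g.2⟩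
      map_one' := Subtype.ext (by
        show Matrix.reindex ixEquiv ixEquiv (1 : Matrix F9 F9 F) = 1
        simp)
      map_mul' := fun a b => Subtype.ext (by
        show Matrix.reindex ixEquiv ixEquiv (((a : GL F9 F) : Matrix F9 F9 F) * ((b : GL F9 F) : Matrix F9 F9 F)) = _
        rw [Matrix.reindex_apply, ← Matrix.submatrix_mul_equiv _ _ _ ixEquiv.symm]
        rfl) }
  have hpres : ∀ b (hb : b < 2), φ ⟨unitOf h2 hω b, Subgroup.subset_closure (by interval_cases b <;> simp)⟩ ∈ SU 9 F 2 := by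
    intro b hb u v
    show ∑ i, ((Matrix.reindex ixEquiv ixEquiv ((unitOf h2 hω b : GL F9 F) : Matrix F9 F9 F)) *ᵥ u) i *
      ((Matrix.reindex ixEquiv ixEquiv ((unitOf h2 hω b : GL F9 F) : Matrix F9 F9 F)) *ᵥ v) i ^ 2 = ∑ i, u i * v i ^ 2
    simp only [Matrix.reindex_apply, Matrix.submatrix_mulVec_equiv, Equiv.symm_symm, Function.comp_apply]
    rw [Equiv.sum_comp ixEquiv.symm (fun x => (((unitOf h2 hω b : GL F9 F) : Matrix F9 F9 F) *ᵥ (u ∘ ixEquiv)) x *
      (((unitOf h2 hω b : GL F9 F) : Matrix F9 F9 F) *ᵥ (v ∘ ixEquiv)) x ^ 2),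
      form_eq h2 hω _ (unitOf_unitary h2 hω hb), ← Equiv.sum_comp ixEquiv (fun i => u i * v i ^ 2)]
    rfl
  have hSU : ∀ g, φ g ∈ SU 9 F 2 := by
    intro g
    have htop : (⊤ : Subgroup (genGroup h2 hω)) ≤ (SU 9 F 2).comap φ := by
      refine le_trans (Subgroup.closure_closure_coe_preimage (k := {unitOf h2 hω 0, unitOf h2 hω 1})).ge ?_
      refine (Subgroup.closure_le _).mpr ?_
      rintro ⟨x, hx⟩ (h | h)
      · change x = unitOf h2 hω 0 at h; subst h; exact hpres 0 (by norm_num)
      · change x = unitOf h2 hω 1 at h; subst h; exact hpres 1 (by norm_num)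
    exact htop (Subgroup.mem_top g)
  let ψ : genGroup h2 hω →* SU 9 F 2 := φ.codRestrict _ hSU
  have hinj : Function.Injective ψ := fun a b h => by
    have h' : φ a = φ b := congrArg Subtype.val h
    exact Subtype.ext (Units.ext ((Matrix.reindex ixEquiv ixEquiv).injective (congrArg Subtype.val h')))
  let e : Spor.threeJ3 F ω ≃* ψ.range :=
    (MulEquiv.subgroupCongr (threeJ3_eq h2 hω)).trans (MonoidHom.ofInjective hinj)
  refine ⟨ψ.range, ?_, ?_, ?_⟩
  · exact (Nat.card_congr (Subgroup.centerCongr e).toEquiv).symm.trans (card_center h2 hω)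
  · haveI := (simple_J3 h2 hω).1
    exact (quotient_center_congr e).symm.isSimpleGroup
  · exact (Nat.card_congr (quotient_center_congr e).toEquiv).symm.trans (simple_J3 h2 hω).2

theorem unitary_realization [Fintype F] (hF : Fintype.card F = 4) :
    ∃ (F : Type) (_ : Field F) (_ : Fintype F), Fintype.card F = 4 ∧ ∃ H : Subgroup (SU 9 F 2),
      Nat.card (Subgroup.center H) = 3 ∧ IsJ3 (H ⧸ Subgroup.center H) :=
  ⟨F, inferInstance, inferInstance, hF, exists_su_subgroup h2 hω hF⟩

end Cfsg.Agent.JankoThree
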